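import Mathlib

/-!
Distinguishing colourings of solvable permutation groups, in several inequivalent copies.
-/

set_option autoImplicit false
set_option linter.style.haveILetI false
set_option linter.unusedSectionVars false

namespace H21.Base3

open MulAction

/-- There are `c` colourings with `c` colours, each preserved only by the kernel of the action, no
two of which are equivalent under the group. -/
def HasCol (c : ℕ) (G X : Type*) [Group G] [MulAction G X] : Prop :=
  ∃ f : Fin c → X → Fin c,
    (∀ (i : Fin c) (g : G), (∀ x, f i (g • x) = f i x) → ∀ x : X, g • x = x) ∧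
    ∀ (i j : Fin c) (g : G), (∀ x, f i (g • x) = f j x) → i = j

/-- Reduction to the blocks of a block system. -/
theorem hasCol_of_blocks {c : ℕ} {G X Y : Type*} [Group G] [MulAction G X] [MulAction G Y]
    (π : X → Y) (hπ : ∀ (g : G) x, π (g • x) = g • π x) (hY : HasCol c G Y)
    (hfib : ∀ y, ∃ e : Fin c → X → Fin c,
      (∀ (i : Fin c) (g : G), g • y = y → (∀ x, π x = y → e i (g • x) = e i x) →
        ∀ x, π x = y → g • x = x) ∧
      ∀ (i j : Fin c) (g : G), g • y = y → (∀ x, π x = y → e i (g • x) = e j x) → i = j) :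
    HasCol c G X := by
  classical
  obtain ⟨d, hd1, hd2⟩ := hY
  choose e he1 he2 using hfib
  let r : Y → Y := fun y => (Quotient.mk'' y : Quotient (orbitRel G Y)).out
  have hr : ∀ y, ∃ t : G, t • r y = y := fun y => by
    have h1 : r y ∈ orbit G y :=
      orbitRel_apply.1 (Quotient.exact (Quotient.out_eq (Quotient.mk'' y : Quotient (orbitRel G Y))))
    exact (orbit_eq_iff.2 h1).symm.subset (mem_orbit_self y)
  choose t ht using hr
  have hrg : ∀ (g : G) (y : Y), r (g • y) = r y := fun g y => by
    have : (Quotient.mk'' (g • y) : Quotient (orbitRel G Y)) = Quotient.mk'' y :=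
      Quotient.sound (mem_orbit y g)
    simp only [r, this]
  let F : Fin c → X → Fin c := fun i x => e (r (π x)) (d i (π x)) ((t (π x))⁻¹ • x)
  have key : ∀ i j : Fin c, ∀ g : G, (∀ x, F i (g • x) = F j x) → ∀ y : Y,
      ((t (g • y))⁻¹ * g * t y) • r y = r y ∧ ∀ w, π w = r y →
        e (r y) (d i (g • y)) (((t (g • y))⁻¹ * g * t y) • w) = e (r y) (d j y) w := by
    intro i j g h y
    constructor
    · rw [mul_smul, mul_smul, ht y, inv_smul_eq_iff]
      exact (ht (g • y)).symm.trans (by rw [hrg])
    · intro w hw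
      have hx : π (t y • w) = y := by rw [hπ, hw, ht]
      have h1 := h (t y • w)
      simp only [F] at h1
      rw [hπ g, hx, hrg, inv_smul_smul] at h1
      rw [mul_smul, mul_smul]
      exact h1
  have hd : ∀ i j : Fin c, ∀ g : G, (∀ x, F i (g • x) = F j x) → ∀ y, d i (g • y) = d j y := fun i j g h y =>
    he2 _ _ _ _ (key i j g h y).1 (key i j g h y).2
  refine ⟨F, fun i g h x => ?_, fun i j g h => hd2 i j g (hd i j g h)⟩
  have hfix := hd1 i g (hd i i g h)
  obtain ⟨k1, k2⟩ := key i i g h (π x)
  rw [hfix] at k1 k2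
  have hw : π ((t (π x))⁻¹ • x) = r (π x) := by
    rw [hπ, inv_smul_eq_iff]; exact (ht (π x)).symm
  have h3 := he1 (r (π x)) (d i (π x)) _ k1 k2 _ hw
  rw [mul_smul, mul_smul, smul_inv_smul] at h3
  exact MulAction.injective _ h3

theorem exists_abelian_normal {G : Type*} [Group G] [Nontrivial G] (hs : Group.IsSolvable G) :
    ∃ N : Subgroup G, N.Normal ∧ N ≠ ⊥ ∧ IsMulCommutative ↥N := by
  classical
  obtain ⟨n, hn⟩ := (Group.isSolvable_def G).1 hs
  have hex : ∃ n, derivedSeries G n = ⊥ := ⟨n, hn⟩
  have h0 : Nat.find hex ≠ 0 := fun h => by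
    have := Nat.find_spec hex
    rw [h, derivedSeries_zero] at this
    exact top_ne_bot this
  obtain ⟨m, hm⟩ := Nat.exists_eq_succ_of_ne_zero h0
  refine ⟨derivedSeries G m, derivedSeries_normal G m, Nat.find_min hex (by omega), ?_⟩
  have h1 := Nat.find_spec hex
  rw [hm, Nat.succ_eq_add_one, derivedSeries_succ] at h1
  exact ⟨⟨fun a b => Subtype.ext (commutatorElement_eq_one_iff_mul_comm.1
    (Subgroup.mem_bot.1 (h1 ▸ Subgroup.commutator_mem_commutator a.2 b.2)))⟩⟩

theorem fin_five_shift {α : Type*} (v : Fin 5 → α) (d : Fin 5) (hd : d ≠ 0)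
    (h : ∀ a, v a = v (a + d)) (a : Fin 5) : v a = v 0 := by
  have hm : ∀ m : ℕ, v (m • d) = v 0 := by
    intro m
    induction m with
    | zero => simp
    | succ m ih => rw [succ_nsmul, ← h, ih]
  have hsurj : ∀ d : Fin 5, d ≠ 0 → ∀ a : Fin 5, ∃ m : Fin 5, (m : ℕ) • d = a := by
    decide
  obtain ⟨m, hm'⟩ := hsurj d hd a
  rw [← hm', hm]

section Affine

variable {N : Type*} [CommGroup N]

/-- A minimal list of generators. -/
theorem exists_indep_gens (N : Type*) [CommGroup N] [Finite N] :
    ∃ (k : ℕ) (g : Fin k → N), Function.Injective g ∧ Subgroup.closure (Set.range g) = ⊤ ∧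
      (∀ i, g i ∉ Subgroup.closure (g '' {j | j ≠ i})) ∧
      (IsCyclic N → k ≤ 1) := by
  classical
  haveI := Fintype.ofFinite N
  let good : Finset (Finset N) := Finset.univ.filter fun s => Subgroup.closure (s : Set N) = ⊤
  have hne : good.Nonempty := ⟨Finset.univ, by simp [good]⟩
  obtain ⟨s, hs, hmin⟩ := good.exists_min_image Finset.card hne
  simp only [good, Finset.mem_filter, Finset.mem_univ, true_and] at hs hmin
  let g : Fin s.card → N := fun i => (s.equivFin.symm i : N)
  have hg : Function.Injective g := Subtype.val_injective.comp s.equivFin.symm.injective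
  have hrange : Set.range g = (s : Set N) := by
    ext a
    exact ⟨by rintro ⟨i, rfl⟩; exact (s.equivFin.symm i).2, fun h => ⟨s.equivFin ⟨a, h⟩, by simp [g]⟩⟩
  refine ⟨s.card, g, hg, by rw [hrange, hs], fun i hi => ?_, fun hc => ?_⟩
  · have hle : Subgroup.closure (g '' {j | j ≠ i}) ≤ Subgroup.closure ((s.erase (g i) : Finset N) : Set N) := by
      refine Subgroup.closure_mono ?_
      rintro _ ⟨j, hj, rfl⟩
      rw [Finset.coe_erase]
      exact ⟨hrange ▸ ⟨j, rfl⟩, fun h => hj (hg h)⟩
    have htop : Subgroup.closure ((s.erase (g i) : Finset N) : Set N) = ⊤ := by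
      rw [eq_top_iff, ← hs, Subgroup.closure_le]
      intro a ha
      by_cases h : a = g i
      · exact h ▸ hle hi
      · exact Subgroup.subset_closure (by rw [Finset.coe_erase]; exact ⟨ha, h⟩)
    have h1 := hmin _ htop
    have h2 : (s.erase (g i)).card < s.card := Finset.card_erase_lt_of_mem (s.equivFin.symm i).2
    omega
  · obtain ⟨a, ha⟩ := hc.exists_generator
    have := hmin {a} (by
      rw [Finset.coe_singleton, ← Subgroup.zpowers_eq_closure, Subgroup.eq_top_iff']
      exact ha)
    simpa using this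

variable {k : ℕ} {g : Fin k → N} (hg : Function.Injective g)
  (hind : ∀ i, g i ∉ Subgroup.closure (g '' {j | j ≠ i}))

include hind in
theorem mem_cl {i j : Fin k} (h : j ≠ i) : g j ∈ Subgroup.closure (g '' {l | l ≠ i}) :=
  Subgroup.subset_closure ⟨j, h, rfl⟩

include hind in
theorem gen_ne_one (i : Fin k) : g i ≠ 1 := fun h => hind i (h ▸ Subgroup.one_mem _)

include hind in
theorem mul_ne_one {a b : Fin k} (hab : a ≠ b) : g a * g b ≠ 1 := fun h =>
  hind a (by
    rw [eq_inv_of_mul_eq_one_left h]
    exact Subgroup.inv_mem _ (mem_cl hind hab.symm))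

include hind in
theorem mul_ne_gen {a b c : Fin k} (hab : a ≠ b) : g a * g b ≠ g c := fun h => by
  by_cases hca : c = a
  · subst hca
    rw [mul_eq_left] at h
    exact gen_ne_one hind b h
  · refine hind a ?_
    rw [eq_mul_inv_of_mul_eq h]
    exact Subgroup.mul_mem _ (mem_cl hind hca) (Subgroup.inv_mem _ (mem_cl hind hab.symm))

include hg hind in
theorem mul_inj {a b c d : Fin k} (hab : a ≠ b) (h : g a * g b = g c * g d) :
    (a = c ∧ b = d) ∨ (a = d ∧ b = c) := by
  by_cases hac : a = c
  · subst hac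
    exact Or.inl ⟨rfl, hg (mul_left_cancel h)⟩
  by_cases had : a = d
  · subst had
    rw [mul_comm (g c)] at h
    exact Or.inr ⟨rfl, hg (mul_left_cancel h)⟩
  exfalso
  refine hind a ?_
  rw [eq_mul_inv_of_mul_eq h]
  exact Subgroup.mul_mem _ (Subgroup.mul_mem _ (mem_cl hind (Ne.symm hac)) (mem_cl hind (Ne.symm had)))
    (Subgroup.inv_mem _ (mem_cl hind hab.symm))

open Classical in
/-- The colour classes: the identity, the first generator, the other generators, the edges of the
path, and the rest. -/
noncomputable def cls (g : Fin k → N) (a : N) : Fin 5 :=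
  if a = 1 then 0
  else if ∃ i : Fin k, (i : ℕ) = 0 ∧ g i = a then 1
  else if ∃ i : Fin k, g i = a then 2
  else if ∃ i j : Fin k, (j : ℕ) = i + 1 ∧ g i * g j = a then 3
  else 4

include hg hind in
/-- An automorphism keeping the colour classes is trivial. -/
theorem aut_eq_one (hgen : Subgroup.closure (Set.range g) = ⊤) (θ : N ≃* N)
    (hθ : ∀ a, cls g (θ a) = cls g a) (a : N) : θ a = a := by
  classical
  have h0 : ∀ i : Fin k, (i : ℕ) = 0 → θ (g i) = g i := by
    intro i hi
    have h1 : cls g (g i) = 1 := by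
      simp only [cls, if_neg (gen_ne_one hind i)]
      rw [if_pos ⟨i, hi, rfl⟩]
    have h2 := (hθ (g i)).trans h1
    simp only [cls] at h2
    split_ifs at h2 with e1 e2 e3 e4
    all_goals first
      | exact absurd h2 (by decide)
      | (obtain ⟨j, hj, hja⟩ := e2
         rw [← hja, Fin.ext (hi.trans hj.symm)])
  have hrange : ∀ i : Fin k, ∃ m, θ (g i) = g m := by
    intro i
    by_cases hi : (i : ℕ) = 0
    · exact ⟨i, h0 i hi⟩
    have h1 : cls g (g i) = 2 := by
      simp only [cls, if_neg (gen_ne_one hind i)]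
      rw [if_neg, if_pos ⟨i, rfl⟩]
      rintro ⟨j, hj, hja⟩
      exact hi (hg hja ▸ hj)
    have h2 := (hθ (g i)).trans h1
    simp only [cls] at h2
    split_ifs at h2 with e1 e2 e3 e4
    all_goals first
      | exact absurd h2 (by decide)
      | exact ⟨e3.choose, e3.choose_spec.symm⟩
  have hedge : ∀ i j : Fin k, (j : ℕ) = i + 1 → ∃ l m : Fin k, (m : ℕ) = l + 1 ∧
      θ (g i * g j) = g l * g m := by
    intro i j hij
    have hne : i ≠ j := fun h => by rw [h] at hij; omega
    have h1 : cls g (g i * g j) = 3 := by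
      simp only [cls, if_neg (mul_ne_one hind hne)]
      rw [if_neg, if_neg, if_pos ⟨i, j, hij, rfl⟩]
      · rintro ⟨l, hl⟩; exact mul_ne_gen hind hne hl.symm
      · rintro ⟨l, -, hl⟩; exact mul_ne_gen hind hne hl.symm
    have h2 := (hθ (g i * g j)).trans h1
    simp only [cls] at h2
    split_ifs at h2 with e1 e2 e3 e4
    all_goals first
      | exact absurd h2 (by decide)
      | (obtain ⟨l, m, hlm, heq⟩ := e4
         exact ⟨l, m, hlm, heq.symm⟩)
  have hall : ∀ n : ℕ, ∀ i : Fin k, (i : ℕ) ≤ n → θ (g i) = g i := by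
    intro n
    induction n with
    | zero => exact fun i hi => h0 i (by omega)
    | succ n ih =>
      intro i hi
      rcases Nat.lt_or_ge i.1 (n + 1) with h | h
      · exact ih i (by omega)
      let j : Fin k := ⟨n, by omega⟩
      have hij : (i : ℕ) = j + 1 := by simp [j]; omega
      obtain ⟨l, m, hlm, he⟩ := hedge j i hij
      obtain ⟨q, hq⟩ := hrange i
      rw [map_mul, ih j (by simp [j]), hq] at he
      have hjq : j ≠ q := fun hjq => by
        rw [← hjq, ← ih j (by simp [j])] at hq
        have := hg (θ.injective hq)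
        rw [this] at hij
        omega
      rcases mul_inj hg hind hjq he with ⟨h1, h2⟩ | ⟨h1, h2⟩
      · rw [hq]
        congr 1
        refine Fin.ext ?_
        rw [h2, hlm, hij, h1]
      · exfalso
        have hqn : (q : ℕ) ≤ n := by rw [h2]; rw [← h1] at hlm; simp [j] at hlm; omega
        rw [← ih q hqn] at hq
        have := hg (θ.injective hq)
        rw [this] at hi h
        omega
  have heq : Subgroup.closure (Set.range g) ≤ θ.toMonoidHom.eqLocus (MonoidHom.id N) := by
    rw [Subgroup.closure_le]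
    rintro _ ⟨i, rfl⟩
    exact hall i i le_rfl
  exact heq (hgen ▸ Subgroup.mem_top a)

end Affine

/-- The affine case. -/
theorem hasCol_affine {G X : Type*} [Group G] [MulAction G X] [Finite X] (x₀ : X)
    (N : Subgroup G) [N.Normal] [IsMulCommutative ↥N]
    (hbij : Function.Bijective fun a : ↥N => (a : G) • x₀) : HasCol 5 G X := by
  classical
  letI : CommGroup ↥N := { (inferInstance : Group ↥N) with mul_comm := fun a b => mul_comm' a b }
  haveI : Finite ↥N := Finite.of_injective _ hbij.1
  let φ : ↥N ≃ X := Equiv.ofBijective _ hbij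
  obtain ⟨k, g, hg, hgen, hind, hcyc⟩ := exists_indep_gens ↥N
  let b : X → Fin 5 := fun x => cls g (φ.symm x)
  have hb : ∀ a : ↥N, b ((a : G) • x₀) = cls g a := fun a => by
    show cls g (φ.symm (φ a)) = cls g a
    rw [Equiv.symm_apply_apply]
  have hb0 : ∀ x, b x = 0 ↔ x = x₀ := by
    intro x
    obtain ⟨a, rfl⟩ := hbij.2 x
    rw [hb]
    constructor
    · intro h
      simp only [cls] at h
      split_ifs at h with e1 e2 e3 e4
      all_goals first
        | exact absurd h (by decide)
        | simp [e1]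
    · intro h
      have : a = 1 := hbij.1 (by simpa using h)
      simp [cls, this]
  refine ⟨fun i x => b x + i, fun i u hu => ?_, fun i j u hu => ?_⟩
  · have hu' : ∀ x, b (u • x) = b x := fun x => by simpa using hu x
    have hx0 : u • x₀ = x₀ := (hb0 _).1 ((hu' x₀).trans ((hb0 x₀).2 rfl))
    have hconj : ∀ a : ↥N, u • (a : G) • x₀ = ((MulAut.conjNormal u a : ↥N) : G) • x₀ := fun a => by
      have h : u⁻¹ • x₀ = x₀ := inv_smul_eq_iff.2 hx0.symm
      rw [MulAut.conjNormal_apply, mul_smul, mul_smul, h]
    have hθ := aut_eq_one hg hind hgen (MulAut.conjNormal u : MulAut ↥N) fun a => by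
      rw [← hb, ← hconj, hu', hb]
    intro x
    obtain ⟨a, rfl⟩ := hbij.2 x
    show u • (a : G) • x₀ = (a : G) • x₀
    rw [hconj, hθ]
  · by_contra hij
    have hd : j - i ≠ 0 := sub_ne_zero.2 (Ne.symm hij)
    have hu' : ∀ x, b (u • x) = b x + (j - i) := fun x => by
      have h := hu x
      simp only at h
      rw [← add_sub_assoc, ← h, add_sub_cancel_right]
    let v : Fin 5 → ℕ := fun c => Nat.card {x // b x = c}
    have hv : ∀ c, v c = v (c + (j - i)) := fun c =>
      Nat.card_congr ((MulAction.toPerm u).subtypeEquiv fun x => by simp [hu'])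
    have hv1 : ∀ c, v c = 1 := fun c => by
      rw [fin_five_shift v _ hd hv c]
      refine Nat.card_eq_one_iff_exists.2 ⟨⟨x₀, (hb0 x₀).2 rfl⟩, fun y => Subtype.ext ((hb0 y.1).1 y.2)⟩
    have hX : Nat.card X = 5 := by
      rw [← Nat.card_congr (Equiv.sigmaFiberEquiv b), Nat.card_sigma]
      simp [show ∀ c, Nat.card {x // b x = c} = 1 from hv1]
    obtain ⟨⟨y, hy⟩, -⟩ := Nat.card_eq_one_iff_exists.1 (hv1 2)
    obtain ⟨a, rfl⟩ := hbij.2 y
    rw [hb] at hy
    simp only [cls] at hy
    split_ifs at hy with e1 e2 e3 e4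
    all_goals first
      | exact absurd hy (by decide)
      | (obtain ⟨m, hm⟩ := e3
         haveI := Fact.mk (by norm_num : Nat.Prime 5)
         have hk := hcyc (isCyclic_of_prime_card (p := 5) ((Nat.card_eq_of_bijective _ hbij).trans hX))
         exact e2 ⟨m, by omega, hm⟩)

/-- Every solvable group on a non-empty finite set has five inequivalent distinguishing colourings
with five colours. -/
theorem hasCol_five (n : ℕ) : ∀ (G X : Type) [Group G] [MulAction G X] [Finite X] [Nonempty X],
    Group.IsSolvable G → Nat.card X = n → HasCol 5 G X := by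
  induction n using Nat.strong_induction_on with
  | _ n ih =>
    intro G X _ _ _ _ hs hn
    classical
    by_cases htriv : ∀ (g : G) (x : X), g • x = x
    · refine ⟨fun i _ => i, fun _ g _ x => htriv g x, fun i j g h => h (Classical.arbitrary X)⟩
    have hfibre : ∀ {Y : Type} [MulAction G Y] [Finite Y] (π : X → Y),
        (∀ (g : G) x, π (g • x) = g • π x) → Function.Surjective π → 1 < Nat.card Y →
        Nat.card Y < Nat.card X → HasCol 5 G X := by
      intro Y _ _ π hπ hsur hY1 hYX
      haveI : Nonempty Y := ⟨π (Classical.arbitrary X)⟩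
      refine hasCol_of_blocks π hπ (ih _ (hn ▸ hYX) G Y hs rfl) fun y => ?_
      let B : SubMulAction ↥(stabilizer G y) X :=
        ⟨{x | π x = y}, fun g x hx => by
          show π ((g : G) • x) = y
          rw [hπ, show π x = y from hx]; exact g.2⟩
      haveI : Nonempty ↥B := ⟨⟨(hsur y).choose, (hsur y).choose_spec⟩⟩
      have hlt : Nat.card ↥B < n := by
        haveI : Nontrivial Y := Finite.one_lt_card_iff_nontrivial.1 hY1
        obtain ⟨y', hy'⟩ := exists_ne y
        obtain ⟨x', hx'⟩ := hsur y'
        exact hn ▸ Finite.card_subtype_lt (x := x') fun h => hy' (hx'.symm.trans h)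
      haveI : Group.IsSolvable G := hs
      obtain ⟨e, he1, he2⟩ := ih _ hlt ↥(stabilizer G y) ↥B inferInstance rfl
      refine ⟨fun i x => if h : π x = y then e i ⟨x, h⟩ else i, fun i g hg h x hx => ?_,
        fun i j g hg h => he2 i j ⟨g, hg⟩ fun x => ?_⟩
      · refine congrArg Subtype.val (he1 i ⟨g, hg⟩ (fun z => ?_) ⟨x, hx⟩)
        have h1 := h z.1 z.2
        simp only [dif_pos (show π z.1 = y from z.2),
          dif_pos (show π (g • z.1) = y by rw [hπ, show π z.1 = y from z.2, hg])] at h1
        exact h1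
      · have h1 := h x.1 x.2
        simp only [dif_pos (show π x.1 = y from x.2),
          dif_pos (show π (g • x.1) = y by rw [hπ, show π x.1 = y from x.2, hg])] at h1
        exact h1
    by_cases htrans : IsPretransitive G X
    swap
    · obtain ⟨x, y, hxy⟩ : ∃ x y : X, ∀ g : G, g • x ≠ y := by
        by_contra h
        push Not at h
        exact htrans ⟨h⟩
      letI : MulAction G Bool :=
        { smul := fun _ b => b, one_smul := fun _ => rfl, mul_smul := fun _ _ _ => rfl }
      refine hfibre (fun z => decide (z ∈ orbit G x)) (fun g z => ?_) (fun b => ?_) (by simp) ?_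
      · show decide (g • z ∈ orbit G x) = decide (z ∈ orbit G x)
        have : g • z ∈ orbit G x ↔ z ∈ orbit G x :=
          ⟨fun h => by simpa using mem_orbit_of_mem_orbit g⁻¹ h, fun h => mem_orbit_of_mem_orbit g h⟩
        simp [this]
      · cases b
        · exact ⟨y, decide_eq_false fun ⟨g, hg⟩ => hxy g hg⟩
        · exact ⟨x, decide_eq_true (mem_orbit_self x)⟩
      · haveI := Fintype.ofFinite X
        rw [Nat.card_eq_fintype_card, Nat.card_eq_fintype_card, Fintype.card_bool]
        push Not at htriv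
        obtain ⟨g, z, hgz⟩ := htriv
        refine Fintype.two_lt_card_iff.2 ?_
        by_cases hzx : z ∈ orbit G x
        · exact ⟨z, g • z, y, hgz.symm, fun h => by
            obtain ⟨u, rfl⟩ := hzx
            exact hxy u h,
            fun h => by
            obtain ⟨u, rfl⟩ := hzx
            exact hxy (g * u) (by rw [mul_smul]; exact h)⟩
        · exact ⟨z, g • z, x, hgz.symm, fun h => hzx (by rw [h]; exact mem_orbit_self x), fun h =>
            hzx (by
              have h1 : z = g⁻¹ • x := by rw [← h, inv_smul_smul]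
              rw [h1]; exact mem_orbit x g⁻¹)⟩
    haveI := htrans
    let x₀ : X := Classical.arbitrary X
    set H := stabilizer G x₀ with hH
    have hHidx : H.index = Nat.card X := index_stabilizer_of_transitive G x₀
    haveI : H.FiniteIndex := ⟨by rw [hHidx]; exact Nat.card_pos.ne'⟩
    by_cases hmax : ∀ M : Subgroup G, H < M → M = ⊤
    swap
    · push Not at hmax
      obtain ⟨M, hHM, hM⟩ := hmax
      haveI : M.FiniteIndex := Subgroup.finiteIndex_of_le hHM.le
      choose rep hrep using fun x => exists_smul_eq G x₀ x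
      refine hfibre (Y := G ⧸ M) (fun x => (rep x : G ⧸ M)) (fun g x => ?_) (fun y => ?_) ?_ ?_
      · rw [MulAction.Quotient.smul_mk, QuotientGroup.eq]
        refine hHM.le ?_
        rw [hH, mem_stabilizer_iff, mul_smul, inv_smul_eq_iff, hrep, smul_eq_mul, mul_smul, hrep]
      · obtain ⟨g, rfl⟩ := QuotientGroup.mk_surjective y
        refine ⟨g • x₀, QuotientGroup.eq.2 (hHM.le ?_)⟩
        rw [hH, mem_stabilizer_iff, mul_smul, inv_smul_eq_iff, hrep]
      · exact Subgroup.one_lt_index_of_ne_top hM
      · rw [← hHidx]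
        exact Subgroup.index_strictAnti hHM
    -- the primitive case: pass to the permutation group
    let P : Subgroup (Equiv.Perm X) := (MulAction.toPermHom G X).range
    suffices hP : HasCol 5 ↥P X by
      obtain ⟨f, hf1, hf2⟩ := hP
      exact ⟨f, fun i g h => hf1 i ⟨MulAction.toPermHom G X g, ⟨g, rfl⟩⟩ h,
        fun i j g h => hf2 i j ⟨MulAction.toPermHom G X g, ⟨g, rfl⟩⟩ h⟩
    haveI : Group.IsSolvable G := hs
    have hPs : Group.IsSolvable ↥P :=
      Group.isSolvable_of_surjective (MulAction.toPermHom G X).rangeRestrict_surjective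
    haveI : Nontrivial ↥P := by
      push Not at htriv
      obtain ⟨g, z, hgz⟩ := htriv
      exact ⟨⟨MulAction.toPermHom G X g, ⟨g, rfl⟩⟩, 1, fun h => hgz (by
        have := congrArg (fun u : ↥P => (u : Equiv.Perm X) z) h
        simpa using this)⟩
    obtain ⟨N, hN, hN0, hNc⟩ := exists_abelian_normal hPs
    haveI := hN
    haveI := hNc
    have hNH : ¬ ∀ a ∈ N, a • x₀ = x₀ := by
      intro hle
      refine hN0 ((Subgroup.eq_bot_iff_forall _).2 fun a ha => eq_of_smul_eq_smul fun x : X => ?_)
      obtain ⟨u, rfl⟩ := exists_smul_eq G x₀ x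
      let p : ↥P := ⟨MulAction.toPermHom G X u, ⟨u, rfl⟩⟩
      have h1 := hle _ (by simpa using hN.conj_mem a ha p⁻¹ : p⁻¹ * a * p ∈ N)
      rw [mul_smul, mul_smul, inv_smul_eq_iff] at h1
      rw [one_smul]
      exact h1
    -- the preimage of `N` is transitive
    let M : Subgroup G :=
      { carrier := {u | ∃ a ∈ N, u • x₀ = a • x₀}
        one_mem' := ⟨1, N.one_mem, by simp⟩
        mul_mem' := by
          rintro u w ⟨a, ha, hua⟩ ⟨b, hb, hwb⟩
          let p : ↥P := ⟨MulAction.toPermHom G X u, ⟨u, rfl⟩⟩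
          refine ⟨(p * b * p⁻¹) * a, N.mul_mem (hN.conj_mem b hb p) ha, ?_⟩
          rw [mul_smul, hwb, mul_smul, ← hua, mul_smul, mul_smul]
          show p • b • x₀ = p • b • p⁻¹ • p • x₀
          rw [inv_smul_smul]
        inv_mem' := by
          rintro u ⟨a, ha, hua⟩
          let p : ↥P := ⟨MulAction.toPermHom G X u, ⟨u, rfl⟩⟩
          refine ⟨p⁻¹ * a⁻¹ * p, by simpa using hN.conj_mem a⁻¹ (N.inv_mem ha) p⁻¹, ?_⟩
          rw [mul_smul, mul_smul]
          show p⁻¹ • x₀ = p⁻¹ • a⁻¹ • p • x₀
          rw [show p • x₀ = a • x₀ from hua, inv_smul_smul] }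
    have hHM : H ≤ M := fun u hu => ⟨1, N.one_mem, by rw [one_smul]; exact hu⟩
    have hMtop : M = ⊤ := hmax M (lt_of_le_of_ne hHM fun h => hNH fun a ha => by
      obtain ⟨u, hu⟩ := a.2
      have hm : u ∈ M := ⟨a, ha, by rw [show a = ⟨_, ⟨u, rfl⟩⟩ from Subtype.ext hu.symm]; rfl⟩
      rw [← h] at hm
      show (a : Equiv.Perm X) x₀ = x₀
      rw [← hu]
      exact hm)
    have hbij : Function.Bijective fun a : ↥N => (a : ↥P) • x₀ := by
      have hsur : ∀ x : X, ∃ a ∈ N, a • x₀ = x := fun x => by
        obtain ⟨u, rfl⟩ := exists_smul_eq G x₀ x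
        obtain ⟨a, ha, h⟩ := (hMtop ▸ Subgroup.mem_top u : u ∈ M)
        exact ⟨a, ha, h.symm⟩
      refine ⟨fun a b hab => Subtype.ext (eq_of_smul_eq_smul fun x : X => ?_), fun x => ?_⟩
      · obtain ⟨c, hc, rfl⟩ := hsur x
        have hac := congrArg Subtype.val (mul_comm' a (⟨c, hc⟩ : ↥N))
        have hbc := congrArg Subtype.val (mul_comm' b (⟨c, hc⟩ : ↥N))
        simp only [Subgroup.coe_mul] at hac hbc
        rw [← mul_smul, hac, ← mul_smul, hbc, mul_smul, mul_smul]
        exact congrArg (c • ·) hab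
      · obtain ⟨a, ha, h⟩ := hsur x
        exact ⟨⟨a, ha⟩, h⟩
    exact hasCol_affine x₀ N hbij

end H21.Base3
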