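import Mathlib
import Cfsg.Agent.H35.OddBase.Pairing

/-!
Small lemmas on linear algebra and pairings for bases of size three.
-/

set_option autoImplicit false
set_option linter.style.haveILetI false

namespace H21.Base3

open Module Polynomial

/-- The kernel of a pairing has index at most the index of a subgroup killed on the other side. -/
theorem index_ker_le {X Y K : Type*} [Group X] [Group Y] [Finite Y] [Field K] (f : X →* (Y →* Kˣ))
    (L : Subgroup Y) [L.Normal] (hL : ∀ x, L ≤ (f x).ker) : f.ker.index ≤ L.index := by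
  haveI := H35.OddBase.finite_monoidHom (Y ⧸ L) K
  have hinj : Function.Injective fun t : ↥f.range =>
      (Units.coeHom K).comp (QuotientGroup.lift L t.1 (by obtain ⟨x, hx⟩ := t.2; exact hx ▸ hL x)) := by
    intro a b hab
    refine Subtype.ext (MonoidHom.ext fun y => Units.ext ?_)
    exact DFunLike.congr_fun hab (QuotientGroup.mk y)
  rw [Subgroup.index_ker]
  exact (Nat.card_le_card_of_injective _ hinj).trans
    ((H35.OddBase.card_monoidHom_le (Y ⧸ L) K).trans (le_of_eq rfl))

/-- A linear map killing `u` through a product of linear factors has an eigenvector. -/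
theorem exists_eigen {K V : Type*} [Field K] [AddCommGroup V] [Module K V] (f : Module.End K V)
    (U : Submodule K V) (hU : ∀ v ∈ U, f v ∈ U) (s : Multiset K) {u : V} (hu : u ∈ U) (hu0 : u ≠ 0)
    (h : aeval f (s.map fun μ => X - C μ).prod u = 0) :
    ∃ w ∈ U, w ≠ 0 ∧ ∃ μ : K, f w = μ • w := by
  induction s using Multiset.induction_on generalizing u with
  | empty => simp at h; exact absurd h hu0
  | cons μ s ih =>
    rw [Multiset.map_cons, Multiset.prod_cons, mul_comm, map_mul, Module.End.mul_apply] at h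
    by_cases h0 : aeval f (X - C μ) u = 0
    · refine ⟨u, hu, hu0, μ, ?_⟩
      simpa [sub_eq_zero] using h0
    · refine ih ?_ h0 h
      simp only [map_sub, aeval_X, aeval_C, LinearMap.sub_apply, Module.algebraMap_end_apply]
      exact U.sub_mem (hU u hu) (U.smul_mem μ hu)

/-- Roots of `f ^ n = z ^ n` in the presence of the roots of unity. -/
theorem exists_eigen_of_pow {K V : Type*} [Field K] [AddCommGroup V] [Module K V] (f : Module.End K V)
    (U : Submodule K V) (hU : ∀ v ∈ U, f v ∈ U) {n : ℕ} (hn : 0 < n) {ω : K} (hω : IsPrimitiveRoot ω n)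
    (z : K) {u : V} (hu : u ∈ U) (hu0 : u ≠ 0) (h : (f ^ n) u = (z ^ n) • u) :
    ∃ w ∈ U, w ≠ 0 ∧ ∃ μ : K, f w = μ • w := by
  refine exists_eigen f U hU ((Finset.range n).val.map fun i => ω ^ i * z) hu hu0 ?_
  rw [Multiset.map_map]
  show aeval f (∏ i ∈ Finset.range n, (X - C (ω ^ i * z))) u = 0
  rw [← X_pow_sub_C_eq_prod hω hn rfl]
  rw [map_sub, map_pow, aeval_X, aeval_C, LinearMap.sub_apply, Module.algebraMap_end_apply, h, sub_self]

/-- In a cyclic group an element that is no `r`-th power generates everything modulo such powers. -/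
theorem exists_zpow_mul_pow {C : Type*} [CommGroup C] [IsCyclic C] {r : ℕ} (hr : r.Prime) {c : C}
    (hc : ∀ z, z ^ r ≠ c) (c' : C) : ∃ (i : ℤ) (z : C), c' = c ^ i * z ^ r := by
  obtain ⟨g, hg⟩ := IsCyclic.exists_generator (α := C)
  obtain ⟨m, rfl⟩ := Subgroup.mem_zpowers_iff.1 (hg c)
  obtain ⟨n, rfl⟩ := Subgroup.mem_zpowers_iff.1 (hg c')
  have hcop : IsCoprime m (r : ℤ) := by
    rw [isCoprime_comm, (Nat.prime_iff_prime_int.1 hr).coprime_iff_not_dvd]
    rintro ⟨t, rfl⟩
    exact hc (g ^ t) (by rw [← zpow_natCast, ← zpow_mul, mul_comm])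
  obtain ⟨a, b, hab⟩ := hcop
  refine ⟨a * n, g ^ (b * n), ?_⟩
  rw [← zpow_natCast, ← zpow_mul, ← zpow_mul, ← zpow_add]
  congr 1
  linear_combination (-n) * hab

/-- The binary quadratic form `x² - c y²` is universal. -/
theorem exists_sq_sub_mul_sq {K : Type*} [Field K] [Finite K] (h2 : ringChar K ≠ 2) {c : K}
    (hc : c ≠ 0) (d : K) : ∃ x y : K, x ^ 2 - c * y ^ 2 = d := by
  haveI := Fintype.ofFinite K
  obtain ⟨x, y, h⟩ := FiniteField.exists_root_sum_quadratic (f := (X ^ 2 : K[X]))
    (g := C (-c) * X ^ 2 - C d) (by simp) (by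
      rw [degree_sub_C (by rw [degree_C_mul_X_pow _ (neg_ne_zero.2 hc)]; decide),
        degree_C_mul_X_pow _ (neg_ne_zero.2 hc)]; rfl)
    (FiniteField.odd_card_of_char_ne_two h2)
  refine ⟨x, y, ?_⟩
  simp at h
  linear_combination h

/-- Vectors with distinct characters are independent. -/
theorem eigen_indep {K V D ι : Type*} [Field K] [AddCommGroup V] [Module K V]
    (act : D → Module.End K V) (ψ : ι → D → K) (hψ : Function.Injective ψ) (s : Finset ι) :
    ∀ w : ι → V, (∀ i ∈ s, ∀ d, act d (w i) = ψ i d • w i) → ∑ i ∈ s, w i = 0 → ∀ i ∈ s, w i = 0 := by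
  classical
  induction s using Finset.induction_on with
  | empty => simp
  | insert a s ha ih =>
    intro w hw hsum
    have hrest : ∀ i ∈ s, w i = 0 := by
      intro i hi
      obtain ⟨d, hd⟩ := Function.ne_iff.1 (hψ.ne fun h : i = a => ha (h ▸ hi))
      have h1 := congrArg (act d) hsum
      rw [map_sum, map_zero, Finset.sum_congr rfl (fun j hj => hw j hj d)] at h1
      have h2 : ∑ j ∈ insert a s, (ψ j d - ψ a d) • w j = 0 := by
        simp only [sub_smul]
        rw [Finset.sum_sub_distrib, h1, ← Finset.smul_sum, hsum, smul_zero, sub_zero]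
      rw [Finset.sum_insert ha, sub_self, zero_smul, zero_add] at h2
      have h3 := ih (fun j => (ψ j d - ψ a d) • w j) (fun j hj e => by
        rw [map_smul, hw j (Finset.mem_insert_of_mem hj) e, smul_comm]) h2 i hi
      exact (smul_eq_zero.1 h3).resolve_left (sub_ne_zero.2 hd)
    intro i hi
    rcases Finset.mem_insert.1 hi with rfl | hi
    · rw [Finset.sum_insert ha, Finset.sum_eq_zero hrest, add_zero] at hsum
      exact hsum
    · exact hrest i hi

end H21.Base3
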