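import Cfsg.Agent.H35.OddBase.Primitive
import Cfsg.Agent.H21.Base3.Colour
import Cfsg.Agent.H21.Base3.Lemmas

/-!
Bases of size three for a solvable primitive semilinear group: a vector `u` whose group of
eigen-elements `D` in `B` is as large as possible, and two further vectors with coloured
components in the eigenspaces of `D`.
-/

set_option autoImplicit false
set_option linter.style.haveILetI false
set_option linter.unusedSectionVars false

namespace H21.Base3

open Module H35.OddBase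
open scoped commutatorElement

/-- Three vectors whose common stabiliser is the kernel of the action. -/
def HasTriple (G V : Type*) [Group G] [AddCommGroup V] [DistribMulAction G V] : Prop :=
  ∃ a b c : V, ∀ g : G, g • a = a → g • b = b → g • c = c → ∀ x : V, g • x = x

section

variable {G V K : Type} [Group G] [Finite G] [AddCommGroup V] [Finite V] [DistribMulAction G V]
  [FaithfulSMul G V] [Field K] [Finite K] [Module K V] [Nontrivial V] (S : Frame G V K)
  {B : Subgroup G}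

/-- The commutation scalar. -/
theorem exists_omega (hBC : B ≤ S.σ.ker) (hcomm : ∀ x ∈ B, ∀ y ∈ B, ⁅x, y⁆ ∈ S.A) :
    ∃ Ω : ↥B →* (↥B →* Kˣ), ∀ (x y : ↥B) (v : V),
      (x : G) • (y : G) • v = (Ω x y : K) • (y : G) • (x : G) • v := by
  classical
  have h : ∀ x y : ↥B, ∃ c : Kˣ, ∀ v : V, (x : G) • (y : G) • v = (c : K) • (y : G) • (x : G) • v := by
    intro x y
    refine ⟨S.ι.toHomUnits ⟨_, hcomm _ x.2 _ y.2⟩, fun v => ?_⟩
    rw [MonoidHom.coe_toHomUnits, ← S.scal, ← mul_smul, ← mul_smul, ← mul_smul]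
    congr 1
    simp only [commutatorElement_def]; group
  choose c hc using h
  have hlin : ∀ (x : ↥B) (a : K) (v : V), (x : G) • a • v = a • (x : G) • v := fun x a v => by
    rw [S.semi, MonoidHom.mem_ker.1 (hBC x.2), RingAut.one_apply]
  have huniq : ∀ x y : ↥B, ∀ a : Kˣ,
      (∀ v : V, (x : G) • (y : G) • v = (a : K) • (y : G) • (x : G) • v) → c x y = a := by
    intro x y a ha
    refine Units.ext (Frame.scalar_inj (V := V) fun v => ?_)
    have e : v = (y : G) • (x : G) • (x : G)⁻¹ • (y : G)⁻¹ • v := by simp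
    rw [e, ← hc, ← ha]
  have hmulr : ∀ x y z : ↥B, c x (y * z) = c x y * c x z := fun x y z => huniq _ _ _ fun v => by
    rw [Subgroup.coe_mul, mul_smul (y : G), hc, hc x z, hlin, mul_smul (y : G), Units.val_mul,
      mul_smul (c x y : K)]
  have hmull : ∀ x y z : ↥B, c (x * y) z = c x z * c y z := fun x y z => huniq _ _ _ fun v => by
    rw [Subgroup.coe_mul, mul_smul (x : G), hc y z, hlin, hc x z, mul_smul (x : G), Units.val_mul,
      mul_comm (c x z : K), mul_smul (c y z : K)]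
  exact ⟨MonoidHom.mk' (fun x => MonoidHom.mk' (c x) (hmulr x)) (fun x y => MonoidHom.ext fun z => hmull x y z),
    hc⟩

/-- The orders of `B` modulo `A` are squarefree. -/
theorem pow_mem_of_pow_sq_mem (hBn : B.Normal) (hAB : S.A ≤ B) (hBC : B ≤ S.σ.ker)
    (hcomm : ∀ x ∈ B, ∀ y ∈ B, ⁅x, y⁆ ∈ S.A) (Ω : ↥B →* (↥B →* Kˣ))
    (hΩ : ∀ (x y : ↥B) (v : V), (x : G) • (y : G) • v = (Ω x y : K) • (y : G) • (x : G) • v)
    {r : ℕ} {x : G} (hx : x ∈ B) (h : x ^ (r * r) ∈ S.A) : x ^ r ∈ S.A := by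
  classical
  haveI := S.normal
  let q := QuotientGroup.mk' S.A
  have hq : ∀ a ∈ B, ∀ b ∈ B, Commute (q a) (q b) := fun a ha b hb => by
    rw [← commutatorElement_eq_one_iff_commute, ← map_commutatorElement, QuotientGroup.mk'_apply,
      QuotientGroup.eq_one_iff]
    exact hcomm a ha b hb
  have hqA : ∀ a, a ∈ S.A ↔ q a = 1 := fun a => (QuotientGroup.eq_one_iff a).symm
  let Z : Subgroup G :=
    { carrier := {z | z ∈ B ∧ z ^ r ∈ S.A ∧ ∃ y ∈ B, q z = q y ^ r}
      one_mem' := ⟨B.one_mem, by simp, 1, B.one_mem, by simp⟩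
      mul_mem' := by
        rintro a b ⟨ha, har, y, hy, hay⟩ ⟨hb, hbr, w, hw, hbw⟩
        refine ⟨B.mul_mem ha hb, ?_, y * w, B.mul_mem hy hw, ?_⟩
        · rw [hqA] at har hbr ⊢
          rw [map_pow] at har hbr ⊢
          rw [map_mul, (hq a ha b hb).mul_pow, har, hbr, one_mul]
        · rw [map_mul, map_mul, (hq y hy w hw).mul_pow, hay, hbw]
      inv_mem' := by
        rintro a ⟨ha, har, y, hy, hay⟩
        exact ⟨B.inv_mem ha, by rw [inv_pow]; exact S.A.inv_mem har, y⁻¹, B.inv_mem hy,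
          by rw [map_inv, map_inv, inv_pow, hay]⟩ }
  have hZn : Z.Normal := by
    refine ⟨fun z hz g => ?_⟩
    obtain ⟨hzB, hzr, y, hy, hzy⟩ := hz
    refine ⟨hBn.conj_mem z hzB g, ?_, g * y * g⁻¹, hBn.conj_mem y hy g, ?_⟩
    · rw [conj_pow]; exact S.normal.conj_mem _ hzr g
    · rw [← map_pow, conj_pow, map_mul, map_mul, map_mul, map_mul, map_pow, hzy]
  have hAZ : S.A ≤ Z := fun a ha =>
    ⟨hAB ha, S.A.pow_mem ha r, 1, B.one_mem, by rw [map_one, one_pow, ← hqA]; exact ha⟩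
  have hA1 : ∀ a : G, ∀ haB : a ∈ B, a ∈ S.A → ∀ b : ↥B, Ω b ⟨a, haB⟩ = 1 := by
    intro a haB ha b
    refine Units.ext (Frame.scalar_inj (V := V) fun v => ?_)
    have h1 := hΩ b ⟨a, haB⟩ ((b : G)⁻¹ • a⁻¹ • v)
    have h2 : (b : G) • a • (b : G)⁻¹ • a⁻¹ • v = v := by
      simp only [← mul_smul]
      rw [← mul_assoc, S.commute_of_mem_ker (hBC b.2) ha, mul_assoc, mul_inv_cancel_left, mul_inv_cancel,
        one_smul]
    rw [h2] at h1
    simp only [smul_inv_smul] at h1
    rw [Units.val_one, one_smul]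
    exact h1.symm
  have hab : IsMulCommutative ↥Z := by
    refine ⟨⟨fun a b => Subtype.ext (eq_of_smul_eq_smul fun v : V => ?_)⟩⟩
    obtain ⟨haB, har, -⟩ := a.2
    obtain ⟨hbB, -, w, hw, hbw⟩ := b.2
    have hmem : (w ^ r)⁻¹ * b.1 ∈ S.A := by
      rw [hqA, map_mul, map_inv, map_pow, hbw, inv_mul_cancel]
    have h1 : Ω ⟨a, haB⟩ ⟨b, hbB⟩ = 1 := by
      have e : (⟨b, hbB⟩ : ↥B) = ⟨w, hw⟩ ^ r * ⟨_, hAB hmem⟩ :=
        Subtype.ext (by simp [Subgroup.coe_mul])
      rw [e, map_mul, hA1 _ _ hmem, mul_one, map_pow, ← MonoidHom.pow_apply, ← map_pow]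
      have e2 : (⟨a, haB⟩ : ↥B) ^ r = ⟨_, hAB har⟩ := Subtype.ext (by simp)
      rw [e2]
      refine Units.ext (Frame.scalar_inj (V := V) fun v => ?_)
      have h3 := hΩ ⟨_, hAB har⟩ ⟨w, hw⟩ (((a : G) ^ r)⁻¹ • w⁻¹ • v)
      have h4 : (a : G) ^ r • w • ((a : G) ^ r)⁻¹ • w⁻¹ • v = v := by
        simp only [← mul_smul]
        rw [← mul_assoc, ← S.commute_of_mem_ker (hBC hw) har, mul_assoc, mul_inv_cancel_left, mul_inv_cancel,
          one_smul]
      rw [h4] at h3
      simp only [smul_inv_smul] at h3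
      rw [Units.val_one, one_smul]
      exact h3.symm
    rw [Subgroup.coe_mul, Subgroup.coe_mul, mul_smul, mul_smul]
    have := hΩ ⟨a, haB⟩ ⟨b, hbB⟩ v
    rwa [h1, Units.val_one, one_smul] at this
  have := S.maximal Z hZn hAZ hab
  rw [← this]
  refine ⟨B.pow_mem hx r, ?_, x, hx, map_pow q x r⟩
  rw [← pow_mul]; exact h

/-- The data for the vector `u`. -/
structure Pick (S : Frame G V K) (B : Subgroup G) (Ω : ↥B →* (↥B →* Kˣ)) where
  u : V
  D : Subgroup ↥B
  χ : ↥B → K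
  b₁ : ↥B
  b₂ : ↥B
  α : K
  γ : K
  u_ne : u ≠ 0
  mem_D : ∀ b : ↥B, b ∈ D ↔ ∃ c : K, (b : G) • u = c • u
  eig : ∀ d ∈ D, (d : G) • u = χ d • u
  b₁_mem : ∀ d ∈ D, Ω b₁ d = 1
  b₂_mem : ∀ d ∈ D, Ω b₂ d = 1
  sq_mem : b₁ * b₁ ∈ D
  cover : ∀ b : ↥B, (∀ d ∈ D, Ω b d = 1) →
    b ∈ D ∨ b₁⁻¹ * b ∈ D ∨ b₂⁻¹ * b ∈ D ∨ (b₁ * b₂)⁻¹ * b ∈ D
  rel : (b₂ : G) • u = α • u + γ • (b₁ : G) • u

theorem exists_pick (hBn : B.Normal) (hAB : S.A ≤ B) (hBC : B ≤ S.σ.ker)
    (hcomm : ∀ x ∈ B, ∀ y ∈ B, ⁅x, y⁆ ∈ S.A) (Ω : ↥B →* (↥B →* Kˣ))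
    (hΩ : ∀ (x y : ↥B) (v : V), (x : G) • (y : G) • v = (Ω x y : K) • (y : G) • (x : G) • v) :
    Nonempty (Pick S B Ω) := by
  classical
  haveI := S.normal
  haveI := hBn
  have hlin : ∀ (x : ↥B) (a : K) (v : V), (x : G) • a • v = a • (x : G) • v := fun x a v => by
    rw [S.semi, MonoidHom.mem_ker.1 (hBC x.2), RingAut.one_apply]
  let T : ↥B →* Module.End K V := (S.toEnd).comp (Subgroup.inclusion hBC)
  have hT : ∀ (b : ↥B) (v : V), T b v = (b : G) • v := fun b v => rfl
  let E : V → Subgroup ↥B := fun u =>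
    { carrier := {b | ∃ c : K, (b : G) • u = c • u}
      one_mem' := ⟨1, by simp⟩
      mul_mem' := by
        rintro a b ⟨c, hc⟩ ⟨d, hd⟩
        exact ⟨d * c, by rw [Subgroup.coe_mul, mul_smul, hd, hlin, hc, smul_smul]⟩
      inv_mem' := by
        rintro a ⟨c, hc⟩
        by_cases hu : u = 0
        · exact ⟨1, by simp [hu]⟩
        have hc0 : c ≠ 0 := fun h => hu (by
          rw [h, zero_smul, smul_eq_zero_iff_eq] at hc; exact hc)
        refine ⟨c⁻¹, ?_⟩
        rw [Subgroup.coe_inv, inv_smul_eq_iff, hlin, hc, smul_smul, inv_mul_cancel₀ hc0, one_smul] }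
  haveI := Fintype.ofFinite V
  obtain ⟨u, hu, hmax⟩ := (Finset.univ.filter fun v : V => v ≠ 0).exists_max_image
    (fun v => Nat.card ↥(E v)) (by
      obtain ⟨x, hx⟩ := exists_ne (0 : V)
      exact ⟨x, by simp [hx]⟩)
  simp only [Finset.mem_filter, Finset.mem_univ, true_and] at hu hmax
  set D := E u with hD
  have hDex : ∀ d : ↥D, ∃ c : K, ((d : ↥B) : G) • u = c • u := fun d => d.2
  choose χ0 hχ0 using hDex
  let χ : ↥B → K := fun b => if h : b ∈ D then χ0 ⟨b, h⟩ else 0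
  have hχ : ∀ d ∈ D, (d : G) • u = χ d • u := fun d hd => by
    simp only [χ, dif_pos hd]; exact hχ0 ⟨d, hd⟩
  -- the eigenspace of `D`
  let U : Submodule K V :=
    { carrier := {v | ∀ d ∈ D, (d : G) • v = χ d • v}
      add_mem' := fun ha hb d hd => by rw [smul_add, ha d hd, hb d hd, smul_add]
      zero_mem' := fun d hd => by rw [smul_zero, smul_zero]
      smul_mem' := fun c v hv d hd => by rw [hlin, hv d hd, smul_comm] }
  have huU : u ∈ U := hχ
  let B0 : Subgroup ↥B :=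
    { carrier := {b | ∀ d ∈ D, Ω b d = 1}
      one_mem' := fun d _ => by rw [map_one, MonoidHom.one_apply]
      mul_mem' := fun ha hb d hd => by rw [map_mul, MonoidHom.mul_apply, ha d hd, hb d hd, one_mul]
      inv_mem' := fun ha d hd => by rw [map_inv, MonoidHom.inv_apply, ha d hd, inv_one] }
  have hanti : ∀ x y : ↥B, Ω y x = (Ω x y)⁻¹ := fun x y => by
    refine eq_inv_of_mul_eq_one_left (Units.ext (Frame.scalar_inj (V := V) fun v => ?_))
    have h2 := hΩ y x ((x : G)⁻¹ • (y : G)⁻¹ • v)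
    rw [hΩ x y ((x : G)⁻¹ • (y : G)⁻¹ • v), smul_inv_smul, smul_inv_smul, smul_smul] at h2
    rw [Units.val_mul, Units.val_one, one_smul]
    exact h2.symm
  have hself : ∀ x : ↥B, Ω x x = 1 := fun x => by
    refine Units.ext (Frame.scalar_inj (V := V) fun v => ?_)
    have h1 := hΩ x x ((x : G)⁻¹ • (x : G)⁻¹ • v)
    simp only [smul_inv_smul] at h1
    rw [Units.val_one, one_smul]
    exact h1.symm
  have hne0 : ∀ d ∈ D, χ d ≠ 0 := fun d hd h =>
    hu ((smul_eq_zero_iff_eq (d : G)).1 (by rw [hχ d hd, h, zero_smul]))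
  have hDB0 : D ≤ B0 := fun d hd d' hd' => by
    refine Units.ext (smul_left_injective K hu ?_)
    have h1 := hΩ d d' u
    rw [hχ d' hd', hlin, hχ d hd, hlin, hχ d' hd', smul_comm (χ d') (χ d)] at h1
    show (Ω d d' : K) • u = (1 : K) • u
    have h0 : χ d * χ d' ≠ 0 := mul_ne_zero (hne0 d hd) (hne0 d' hd')
    refine smul_right_injective V h0 ?_
    simp only [one_smul, smul_smul] at h1 ⊢
    rw [mul_comm, ← h1]
  have hUB0 : ∀ b ∈ B0, ∀ v ∈ U, T b v ∈ U := by
    intro b hb v hv d hd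
    have h1 := hΩ d b v
    rw [hanti, hb d hd, inv_one, Units.val_one, one_smul, hv d hd, hlin] at h1
    exact h1
  have hnoeig : ∀ b ∈ B0, b ∉ D → ∀ w ∈ U, w ≠ 0 → ∀ μ : K, T b w ≠ μ • w := by
    intro b hb hbD w hw hw0 μ hμ
    have hle : D ≤ E w := fun d hd => ⟨χ d, hw d hd⟩
    have h1 := hmax w hw0
    have h2 : E w = D := (Subgroup.eq_of_le_of_card_ge hle h1).symm
    exact hbD (h2 ▸ (⟨μ, hμ⟩ : b ∈ E w))
  -- orders modulo `A`
  let A' : Subgroup ↥B := S.A.subgroupOf B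
  haveI : A'.Normal := S.normal.subgroupOf B
  have hA1 : ∀ a ∈ A', ∀ b : ↥B, Ω b a = 1 := fun a ha b => by
    refine Units.ext (Frame.scalar_inj (V := V) fun v => ?_)
    have h1 := hΩ b a ((b : G)⁻¹ • (a : G)⁻¹ • v)
    have h2 : (b : G) • (a : G) • (b : G)⁻¹ • (a : G)⁻¹ • v = v := by
      simp only [← mul_smul]
      rw [← mul_assoc, S.commute_of_mem_ker (hBC b.2) (show (a : G) ∈ S.A from ha), mul_assoc, mul_inv_cancel_left, mul_inv_cancel,
        one_smul]
    rw [h2] at h1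
    simp only [smul_inv_smul] at h1
    rw [Units.val_one, one_smul]
    exact h1.symm
  have hA'D : A' ≤ D := fun a ha => ⟨S.ι ⟨a, ha⟩, S.scal ⟨a, ha⟩ u⟩
  have hcenter : ∀ b : ↥B, (∀ y, Ω b y = 1) → b ∈ A' := fun b hb => by
    refine S.center_le hBn hAB hBC b.2 fun y hy => eq_of_smul_eq_smul fun v : V => ?_
    have := hΩ b ⟨y, hy⟩ v
    rw [hb, Units.val_one, one_smul, ← mul_smul, ← mul_smul] at this
    exact this
  have hsqfree : ∀ b : ↥B, Squarefree (orderOf (QuotientGroup.mk b : ↥B ⧸ A')) := by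
    intro b
    set n := orderOf (QuotientGroup.mk b : ↥B ⧸ A') with hn
    rw [Nat.squarefree_iff_prime_squarefree]
    rintro r hr ⟨t, ht⟩
    have hn0 : 0 < n := orderOf_pos _
    have h1 : b ^ n ∈ A' := by
      rw [← QuotientGroup.eq_one_iff, QuotientGroup.mk_pow, hn]
      exact pow_orderOf_eq_one _
    have h2 : ((b : G) ^ t) ^ (r * r) ∈ S.A := by
      rw [← pow_mul, mul_comm, ← ht]
      simpa [A', Subgroup.mem_subgroupOf] using h1
    have h3 := pow_mem_of_pow_sq_mem S hBn hAB hBC hcomm Ω hΩ (B.pow_mem b.2 t) h2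
    have h4 : b ^ (t * r) ∈ A' := by
      rw [pow_mul]
      simpa [A', Subgroup.mem_subgroupOf] using h3
    have h5 : n ∣ t * r := orderOf_dvd_of_pow_eq_one (by
      rw [← QuotientGroup.mk_pow, QuotientGroup.eq_one_iff]; exact h4)
    have h6 : 0 < t := by
      rcases Nat.eq_zero_or_pos t with h | h
      · rw [h] at ht; omega
      · exact h
    have h7 := Nat.le_of_dvd (Nat.mul_pos h6 hr.pos) h5
    have h8 := hr.two_le
    have h9 : 0 < t * r := Nat.mul_pos h6 hr.pos
    have h10 : t * r * 2 ≤ t * r * r := Nat.mul_le_mul_left _ h8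
    have h11 : n = t * r * r := by rw [ht]; ring
    omega
  have hωr : ∀ b ∈ B0, ∀ r : ℕ, r.Prime → b ^ r ∈ D → b ∉ D → ∃ ω : K, IsPrimitiveRoot ω r := by
    intro b hb r hr hbr hbD
    set n := orderOf (QuotientGroup.mk b : ↥B ⧸ A') with hn
    have hbn : b ^ n ∈ A' := by
      rw [← QuotientGroup.eq_one_iff, QuotientGroup.mk_pow, hn]
      exact pow_orderOf_eq_one _
    have hrn : r ∣ n := by
      by_contra h
      obtain ⟨a, c, hac⟩ := Nat.isCoprime_iff_coprime.2 ((hr.coprime_iff_not_dvd).2 h)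
      refine hbD ?_
      rw [← zpow_one b, ← hac, zpow_add, mul_comm a, mul_comm c, zpow_mul, zpow_mul, zpow_natCast,
        zpow_natCast]
      exact D.mul_mem (D.zpow_mem hbr _) (D.zpow_mem (hA'D hbn) _)
    obtain ⟨s, hs⟩ := hrn
    obtain ⟨y, hy⟩ : ∃ y, Ω (b ^ s) y ≠ 1 := by
      by_contra h
      push Not at h
      have h1 := hcenter _ h
      have h2 : n ∣ s := orderOf_dvd_of_pow_eq_one (by
        rw [← QuotientGroup.mk_pow, QuotientGroup.eq_one_iff]; exact h1)
      have hn0 : 0 < n := orderOf_pos _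
      have hs0 : 0 < s := by
        rcases Nat.eq_zero_or_pos s with h | h
        · rw [h, mul_zero] at hs; omega
        · exact h
      have := Nat.le_of_dvd hs0 h2
      have := Nat.mul_le_mul_right s hr.two_le
      omega
    refine ⟨(Ω (b ^ s) y : K), IsPrimitiveRoot.iff_orderOf.2 ?_⟩
    haveI := Fact.mk hr
    rw [orderOf_units]
    refine orderOf_eq_prime ?_ hy
    rw [← MonoidHom.pow_apply, ← map_pow, ← pow_mul, mul_comm, ← hs, hanti, hA1 _ hbn, inv_one]
  -- the Kummer scalar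
  have hkum : ∀ b ∈ B0, b ∉ D → ∀ r : ℕ, r.Prime → b ^ r ∈ D → ∀ z : K, χ (b ^ r) ≠ z ^ r := by
    intro b hb hbD r hr hbr z hz
    obtain ⟨ω, hω⟩ := hωr b hb r hr hbr hbD
    obtain ⟨w, hw, hw0, μ, hμ⟩ := exists_eigen_of_pow (T b) U (hUB0 b hb) hr.pos hω z huU hu (by
      rw [← map_pow, hT, hχ _ hbr, hz])
    exact hnoeig b hb hbD w hw hw0 μ hμ
  -- products inside `B0`
  have hprod : ∀ a ∈ B0, ∀ b ∈ B0, ∀ r : ℕ, a ^ r ∈ D → b ^ r ∈ D →
      ∀ v ∈ U, ((a * b) ^ r : ↥B).1 • v = ((Ω b a : K) ^ (r.choose 2) * χ (a ^ r) * χ (b ^ r)) • v := by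
    intro a ha b hb r har hbr
    have hk : ∀ k : ℕ, ∀ v : V, (b : G) • (a ^ k : ↥B).1 • v =
        (Ω b a : K) ^ k • (a ^ k : ↥B).1 • (b : G) • v := by
      intro k v
      rw [hΩ b (a ^ k) v, map_pow, Units.val_pow_eq_pow_val]
    have hall : ∀ k : ℕ, ∀ v : V, ((a * b) ^ k : ↥B).1 • v =
        (Ω b a : K) ^ (k.choose 2) • (a ^ k : ↥B).1 • (b ^ k : ↥B).1 • v := by
      intro k
      induction k with
      | zero => intro v; simp
      | succ k ih =>
        intro v
        rw [pow_succ', Subgroup.coe_mul, mul_smul, ih, hlin, Subgroup.coe_mul, mul_smul, hk, hlin,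
          smul_smul ((Ω b a : K) ^ (k.choose 2)), pow_succ' a, pow_succ' b]
        simp only [Subgroup.coe_mul, mul_smul]
        rw [smul_smul ((Ω b a : K) ^ (k.choose 2)), ← pow_add]
        congr 2
        simp only [Nat.choose_succ_succ k 1, Nat.choose_one_right, show Nat.succ 1 = 2 from rfl]
        omega
    intro v hv
    rw [hall, hv _ hbr, hlin, hv _ har, smul_smul, smul_smul]
    congr 1
    ring
  -- odd primes
  have hodd : ∀ b ∈ B0, ∀ r : ℕ, r.Prime → r ≠ 2 → b ^ r ∈ D → b ∈ D := by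
    intro b hb r hr hr2 hbr
    by_contra hbD
    have hΩr : ∀ y ∈ B0, Ω b y ^ r = 1 := fun y hy => by
      rw [← MonoidHom.pow_apply, ← map_pow, hanti, hy _ hbr, inv_one]
    obtain ⟨c, hc⟩ : ∃ c : Kˣ, (c : K) = χ (b ^ r) := ⟨Units.mk0 _ (hne0 _ hbr), rfl⟩
    have hcr : ∀ z : Kˣ, z ^ r ≠ c := fun z h => hkum b hb hbD r hr hbr z (by
      rw [← hc, ← h, Units.val_pow_eq_pow_val])
    have hcyc : ∀ y ∈ B0, y ^ r ∈ D → ∃ i : ℤ, (b ^ i)⁻¹ * y ∈ D := by
      intro y hy hyr
      obtain ⟨i, z, hiz⟩ := exists_zpow_mul_pow hr hcr (Units.mk0 _ (hne0 _ hyr))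
      refine ⟨i, ?_⟩
      by_contra hnot
      set a := (b ^ i)⁻¹ with ha_def
      have ha : a ∈ B0 := B0.inv_mem (B0.zpow_mem hb i)
      have har : a ^ r ∈ D := by
        rw [ha_def, inv_pow, ← zpow_natCast, ← zpow_mul, mul_comm, zpow_mul, zpow_natCast]
        exact D.inv_mem (D.zpow_mem hbr i)
      have hω1 : (Ω y a : K) ^ (r.choose 2) = 1 := by
        obtain ⟨t, ht⟩ : r ∣ r.choose 2 := hr.dvd_choose_self two_ne_zero
          (lt_of_le_of_ne hr.two_le (Ne.symm hr2))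
        have h1 : Ω y a ^ r = 1 := by
          rw [← MonoidHom.pow_apply, ← map_pow, hanti, ha _ hyr, inv_one]
        rw [← Units.val_pow_eq_pow_val, ht, pow_mul, h1, one_pow, Units.val_one]
      have hayr : (a * y) ^ r ∈ D := ⟨_, hprod a ha y hy r har hyr u huU⟩
      refine hkum (a * y) (B0.mul_mem ha hy) hnot r hr hayr (z : K) ?_
      refine smul_left_injective K hu ?_
      show χ ((a * y) ^ r) • u = _ • u
      rw [← hχ _ hayr, hprod a ha y hy r har hyr u huU, hω1, one_mul]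
      congr 1
      have hda : χ (a ^ r) = ((c ^ i)⁻¹ : Kˣ) := by
        have hχhom : ∀ d ∈ D, ∀ e ∈ D, χ (d * e) = χ d * χ e := fun d hd e he => by
          refine smul_left_injective K hu ?_
          show χ (d * e) • u = (χ d * χ e) • u
          rw [← hχ _ (D.mul_mem hd he), Subgroup.coe_mul, mul_smul, hχ e he, hlin, hχ d hd, smul_smul,
            mul_comm]
        let ψ : ↥D →* Kˣ := MonoidHom.mk' (fun d => Units.mk0 (χ d.1) (hne0 _ d.2))
          (fun d e => Units.ext (hχhom d.1 d.2 e.1 e.2))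
        have h1 : ψ ⟨a ^ r, har⟩ = (c ^ i)⁻¹ := by
          have e1 : (⟨a ^ r, har⟩ : ↥D) = ((⟨b ^ r, hbr⟩ : ↥D) ^ i)⁻¹ := Subtype.ext (by
            show a ^ r = ((b ^ r) ^ i)⁻¹
            rw [ha_def, inv_pow, ← zpow_natCast, ← zpow_mul, mul_comm, zpow_mul, zpow_natCast])
          rw [e1, map_inv, map_zpow]
          congr 2
          exact Units.ext hc.symm
        exact congrArg Units.val h1
      have hdy : χ (y ^ r) = ((c ^ i * z ^ r : Kˣ) : K) := by rw [← hiz]; rfl
      rw [hda, hdy, ← Units.val_mul, inv_mul_cancel_left, Units.val_pow_eq_pow_val]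
    -- so `b` is central in `B0`
    have hcen : ∀ y ∈ B0, Ω b y = 1 := by
      intro y hy
      set n := orderOf (QuotientGroup.mk y : ↥B ⧸ A') with hn
      have hyn : y ^ n ∈ A' := by
        rw [← QuotientGroup.eq_one_iff, QuotientGroup.mk_pow, hn]
        exact pow_orderOf_eq_one _
      by_contra h
      have ho : orderOf (Ω b y) = r := by
        haveI := Fact.mk hr
        exact orderOf_eq_prime (hΩr y hy) h
      obtain ⟨s, hs⟩ : r ∣ n := ho ▸ orderOf_dvd_of_pow_eq_one (by rw [← map_pow, hA1 _ hyn])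
      have hys : (y ^ s) ^ r ∈ D := by rw [← pow_mul, mul_comm, ← hs]; exact hA'D hyn
      obtain ⟨i, hi⟩ := hcyc _ (B0.pow_mem hy s) hys
      have h1 : Ω b (y ^ s) = 1 := by
        rw [← mul_inv_cancel_left (b ^ i) (y ^ s), map_mul, map_zpow, hself, one_zpow, one_mul]
        exact hb _ hi
      rw [map_pow] at h1
      have h2 : r ∣ s := ho ▸ orderOf_dvd_of_pow_eq_one h1
      obtain ⟨t, rfl⟩ := h2
      have := Nat.squarefree_iff_prime_squarefree.1 (hsqfree y) r hr
      exact this ⟨t, by rw [← hn, hs, mul_assoc]⟩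
    -- but `D` is its own double orthogonal inside `B0`
    let f : ↥B →* (↥D →* Kˣ) :=
      MonoidHom.mk' (fun x => (Ω x).comp D.subtype) (fun x y => by ext d; simp)
    have hfker : f.ker = B0 := by
      ext x
      exact ⟨fun h d hd => DFunLike.congr_fun h ⟨d, hd⟩, fun h => MonoidHom.ext fun d => h d.1 d.2⟩
    let D2 : Subgroup ↥B :=
      { carrier := {x | ∀ y ∈ B0, Ω x y = 1}
        one_mem' := fun d _ => by rw [map_one, MonoidHom.one_apply]
        mul_mem' := fun ha hb d hd => by rw [map_mul, MonoidHom.mul_apply, ha d hd, hb d hd, one_mul]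
        inv_mem' := fun ha d hd => by rw [map_inv, MonoidHom.inv_apply, ha d hd, inv_one] }
    have hDD2 : D ≤ D2 := fun d hd y hy => by rw [hanti, hy d hd, inv_one]
    let f2 : ↥D2 →* (↥B →* Kˣ) := Ω.comp D2.subtype
    have h1 : B0.index ≤ A'.relIndex D := by
      rw [← hfker]
      exact index_ker_le f (A'.subgroupOf D) fun x a ha => hA1 _ ha x
    have h2 : A'.relIndex D2 ≤ B0.index := by
      have hk : f2.ker = A'.subgroupOf D2 := by
        ext x
        exact ⟨fun h => hcenter _ fun y => DFunLike.congr_fun h y,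
          fun h => MonoidHom.ext fun y => by
            show Ω x.1 y = 1
            rw [hanti, hA1 x.1 h y, inv_one]⟩
      haveI : B0.Normal := hfker ▸ MonoidHom.normal_ker f
      rw [Subgroup.relIndex, ← hk]
      exact index_ker_le f2 B0 fun x y hy => x.2 y hy
    have h3 : D.relIndex D2 = 1 := by
      have h4 := Subgroup.relIndex_mul_relIndex A' D D2 hA'D hDD2
      have h5 : 0 < A'.relIndex D := Nat.pos_of_ne_zero Subgroup.index_ne_zero_of_finite
      have h6 : 0 < D.relIndex D2 := Nat.pos_of_ne_zero Subgroup.index_ne_zero_of_finite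
      by_contra h7
      have h8 : A'.relIndex D * 2 ≤ A'.relIndex D * D.relIndex D2 := Nat.mul_le_mul_left _ (by omega)
      omega
    exact hbD (Subgroup.relIndex_eq_one.1 h3 hcen)
  -- squares
  have hsq : ∀ b ∈ B0, b * b ∈ D := by
    intro b hb
    set n := orderOf (QuotientGroup.mk b : ↥B ⧸ A') with hn
    have hbn : b ^ n ∈ A' := by
      rw [← QuotientGroup.eq_one_iff, QuotientGroup.mk_pow, hn]
      exact pow_orderOf_eq_one _
    rw [← pow_two]
    have key : ∀ m : ℕ, Odd m → Squarefree m → ∀ y ∈ B0, y ^ m ∈ D → y ∈ D := by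
      intro m
      induction m using Nat.strong_induction_on with
      | _ m ih =>
        intro hm hmsq y hy hym
        by_cases h1 : m = 1
        · rwa [h1, pow_one] at hym
        obtain ⟨r, hr, hrm⟩ := Nat.exists_prime_and_dvd h1
        obtain ⟨t, rfl⟩ := hrm
        have ht : 0 < t := by
          rcases Nat.eq_zero_or_pos t with h | h
          · rw [h, mul_zero] at hm; exact absurd hm (by decide)
          · exact h
        refine ih t (lt_mul_left ht hr.one_lt) (Nat.Odd.of_mul_right hm)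
          (hmsq.squarefree_of_dvd (dvd_mul_left t r)) y hy ?_
        refine hodd _ (B0.pow_mem hy t) r hr ?_ ?_
        · rintro rfl
          exact Nat.not_even_iff_odd.2 hm ⟨t, two_mul t⟩
        · rw [← pow_mul, mul_comm]; exact hym
    rcases Nat.even_or_odd n with ⟨t, ht⟩ | hodd'
    · refine key t ?_ ((hsqfree b).squarefree_of_dvd ⟨2, by rw [← hn, ht]; ring⟩) _ (B0.pow_mem hb 2) ?_
      · by_contra h
        obtain ⟨s, hs⟩ := Nat.not_odd_iff_even.1 h
        exact Nat.squarefree_iff_prime_squarefree.1 (hsqfree b) 2 Nat.prime_two ⟨s, by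
          rw [← hn, ht, hs]; ring⟩
      · rw [← pow_mul, two_mul, ← ht]; exact hA'D hbn
    · exact D.pow_mem (key n hodd' (hsqfree b) b hb (hA'D hbn)) 2
  -- distinct classes anticommute
  have hanticomm : ∀ a ∈ B0, ∀ b ∈ B0, a ∉ D → b ∉ D → a * b ∉ D → (Ω b a : K) = -1 ∧ ringChar K ≠ 2 := by
    intro a ha b hb haD hbD habD
    have hpw : ∀ x ∈ B0, x ^ 2 ∈ D := fun x hx => by rw [pow_two]; exact hsq x hx
    have h1 := hprod a ha b hb 2 (hpw a ha) (hpw b hb) u huU
    rw [Nat.choose_self, pow_one] at h1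
    have h2 : Ω b a ^ 2 = 1 := by
      rw [← MonoidHom.pow_apply, ← map_pow, hanti, ha _ (hpw b hb), inv_one]
    have hne : Ω b a ≠ 1 := by
      intro h
      rw [h, Units.val_one, one_mul] at h1
      obtain ⟨c, hc⟩ : ∃ c : Kˣ, (c : K) = χ (a ^ 2) := ⟨Units.mk0 _ (hne0 _ (hpw a ha)), rfl⟩
      obtain ⟨i, z, hiz⟩ := exists_zpow_mul_pow (C := Kˣ) (c := c) Nat.prime_two (fun z hz => hkum a ha haD 2 Nat.prime_two
        (hpw a ha) z (by rw [← hc, ← hz, Units.val_pow_eq_pow_val]))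
        (Units.mk0 _ (hne0 _ (hpw b hb)))
      rcases Int.even_or_odd i with ⟨j, hj⟩ | ⟨j, hj⟩
      · refine hkum b hb hbD 2 Nat.prime_two (hpw b hb) ((c ^ j * z : Kˣ) : K) ?_
        have := congrArg Units.val hiz
        rw [Units.val_mk0] at this
        rw [this, ← Units.val_pow_eq_pow_val, mul_pow, hj, zpow_add, ← pow_two]
      · refine hkum (a * b) (B0.mul_mem ha hb) habD 2 Nat.prime_two (hpw _ (B0.mul_mem ha hb))
          ((c ^ (j + 1) * z : Kˣ) : K) ?_
        refine smul_left_injective K hu ?_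
        show χ ((a * b) ^ 2) • u = _ • u
        rw [← hχ _ (hpw _ (B0.mul_mem ha hb)), h1]
        congr 1
        have := congrArg Units.val hiz
        rw [Units.val_mk0] at this
        rw [this, ← hc, ← Units.val_mul, ← Units.val_pow_eq_pow_val, mul_pow, ← mul_assoc, hj,
          pow_two (c ^ (j + 1)), ← zpow_add, ← zpow_one_add]
        congr 3
        ring
    have h3 : (Ω b a : K) ^ 2 = 1 := by rw [← Units.val_pow_eq_pow_val, h2, Units.val_one]
    have h4 : (Ω b a : K) ≠ 1 := fun h => hne (Units.ext h)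
    have h5 := (sq_eq_one_iff.1 h3).resolve_left h4
    exact ⟨h5, fun h => h4 (h5.trans (by
      haveI := ringChar.of_eq h
      exact CharTwo.neg_eq (1 : K)))⟩
  by_cases hall : ∀ b ∈ B0, b ∈ D
  · exact ⟨⟨u, D, χ, 1, 1, 1, 0, hu, fun b => Iff.rfl, hχ, by simp, by simp, by simp,
      fun b hb => Or.inl (hall b hb), by simp⟩⟩
  push Not at hall
  obtain ⟨a, ha, haD⟩ := hall
  by_cases hone : ∀ b ∈ B0, b ∈ D ∨ a⁻¹ * b ∈ D
  · exact ⟨⟨u, D, χ, a, 1, 1, 0, hu, fun b => Iff.rfl, hχ, ha, by simp, hsq a ha,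
      fun b hb => (hone b hb).elim Or.inl (fun h => Or.inr (Or.inl h)), by simp⟩⟩
  push Not at hone
  obtain ⟨b, hb, hbD, habD⟩ := hone
  have hinvD : ∀ x ∈ B0, ∀ y : ↥B, x⁻¹ * y ∈ D ↔ x * y ∈ D := fun x hx y => by
    rw [← D.mul_mem_cancel_left (hsq x hx) (y := x⁻¹ * y), mul_assoc, mul_inv_cancel_left]
  rw [hinvD a ha] at habD
  obtain ⟨hω, hchar⟩ := hanticomm a ha b hb haD hbD habD
  have hcover : ∀ y ∈ B0, y ∈ D ∨ a⁻¹ * y ∈ D ∨ b⁻¹ * y ∈ D ∨ (a * b)⁻¹ * y ∈ D := by
    intro y hy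
    by_contra hc
    push Not at hc
    obtain ⟨h1, h2, h3, h4⟩ := hc
    rw [hinvD a ha] at h2
    rw [hinvD b hb] at h3
    rw [hinvD _ (B0.mul_mem ha hb)] at h4
    have e1 := (hanticomm a ha y hy haD h1 h2).1
    have e2 := (hanticomm b hb y hy hbD h1 h3).1
    have e3 := (hanticomm (a * b) (B0.mul_mem ha hb) y hy habD h1 h4).1
    rw [map_mul, Units.val_mul, e1, e2] at e3
    have : (1 : K) = -1 := by simpa using e3
    exact Ring.neg_one_ne_one_of_char_ne_two hchar this.symm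
  have hpa : a ^ 2 ∈ D := by rw [pow_two]; exact hsq a ha
  have hpb : b ^ 2 ∈ D := by rw [pow_two]; exact hsq b hb
  obtain ⟨α, γ, hαγ⟩ := exists_sq_sub_mul_sq hchar (hne0 _ hpa) (χ (b ^ 2))
  let w : V := (b : G) • u - (α • u + γ • (a : G) • u)
  by_cases hw : w = 0
  · exact ⟨⟨u, D, χ, a, b, α, γ, hu, fun b => Iff.rfl, hχ, ha, hb, hsq a ha, hcover, sub_eq_zero.1 hw⟩⟩
  have hwU : w ∈ U := U.sub_mem (hUB0 b hb u huU)
    (U.add_mem (U.smul_mem α huU) (U.smul_mem γ (hUB0 a ha u huU)))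
  have hEw : E w = D :=
    (Subgroup.eq_of_le_of_card_ge (show D ≤ E w from fun d hd => ⟨χ d, hwU d hd⟩) (hmax w hw)).symm
  refine ⟨⟨w, D, χ, a, b, -α, γ, hw, fun y => by rw [← hEw]; exact Iff.rfl, hwU, ha, hb, hsq a ha,
    hcover, ?_⟩⟩
  have ha2 : (a : G) • (a : G) • u = χ (a ^ 2) • u := by
    rw [← mul_smul, ← pow_two, ← hχ _ hpa]; rfl
  have hb2 : (b : G) • (b : G) • u = χ (b ^ 2) • u := by
    rw [← mul_smul, ← pow_two, ← hχ _ hpb]; rfl
  have hba : (b : G) • (a : G) • u = (-1 : K) • (a : G) • (b : G) • u := by rw [hΩ b a u, hω]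
  simp only [w, smul_sub, smul_add, hlin, hb2, hba, ha2]
  rw [← hαγ]
  generalize (a : G) • (b : G) • u = x₃
  generalize (a : G) • u = x₁
  generalize (b : G) • u = x₂
  module

include S in
/-- The conclusion in the primitive case. -/
theorem hasTriple_of_frame [Group.IsSolvable G] : HasTriple G V := by
  classical
  haveI := S.normal
  obtain ⟨B, hBn, hAB, hBC, hcomm, hmax⟩ := S.exists_B
  haveI := hBn
  obtain ⟨Ω, hΩ⟩ := exists_omega S hBC hcomm
  obtain ⟨⟨u, D, χ, b₁, b₂, α, γ, hu, hD, hχ, hb₁, hb₂, hb₁sq, hcover, hrel⟩⟩ :=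
    exists_pick S hBn hAB hBC hcomm Ω hΩ
  have hlin : ∀ (x : ↥B) (a : K) (v : V), (x : G) • a • v = a • (x : G) • v := fun x a v => by
    rw [S.semi, MonoidHom.mem_ker.1 (hBC x.2), RingAut.one_apply]
  let f : ↥B →* (↥D →* Kˣ) :=
    MonoidHom.mk' (fun x => (Ω x).comp D.subtype) (fun x y => by ext d; simp)
  have hfker : ∀ x, f x = 1 ↔ ∀ d ∈ D, Ω x d = 1 := fun x =>
    ⟨fun h d hd => DFunLike.congr_fun h ⟨d, hd⟩, fun h => MonoidHom.ext fun d => h d.1 d.2⟩
  let M := ↥f.range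
  haveI : Finite M := Finite.of_surjective _ f.rangeRestrict_surjective
  obtain ⟨k, gen, hgi, hgen, hind, -⟩ := exists_indep_gens M
  have hrep : ∀ m : M, ∃ b : ↥B, f b = m.1 := fun m => m.2
  choose rep hrep using hrep
  obtain ⟨ζ, hζ⟩ := IsCyclic.exists_generator (α := Kˣ)
  let cy : Fin 5 → K := fun c => if c = 2 then 0 else 1
  let cz : Fin 5 → K := fun c => if c = 1 then 0 else if c = 4 then (ζ : K) else 1
  let Y : M → V := fun m => if m = 1 then (b₁ : G) • u else cy (cls gen m) • (rep m : G) • u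
  let Z : M → V := fun m => if m = 1 then (ζ : K) • u else cz (cls gen m) • (rep m : G) • u
  haveI := Fintype.ofFinite M
  refine ⟨u, ∑ m, Y m, ∑ m, Z m, fun g hgu hgy hgz => ?_⟩
  suffices hg1 : g = 1 by intro x; rw [hg1, one_smul]
  -- conjugation on `B`
  let cj : G → ↥B ≃* ↥B := fun h => MulAut.conjNormal h
  have hcj : ∀ (h : G) (b : ↥B) (v : V), h • (b : G) • v = (cj h b : G) • h • v := fun h b v => by
    rw [MulAut.conjNormal_apply, ← mul_smul, ← mul_smul, inv_mul_cancel_right]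
  have hstab : ∀ h : G, h • u = u → ∀ d ∈ D, cj h d ∈ D := fun h hh d hd => by
    refine (hD _).2 ⟨S.σ h (χ d), ?_⟩
    have h1 := hcj h d u
    rw [hh, hχ d hd, S.semi, hh] at h1
    exact h1.symm
  have hstab' : ∀ h : G, h • u = u → ∀ x, f x = 1 → f (cj h x) = 1 := by
    intro h hh x hx
    rw [hfker] at hx ⊢
    intro d hd
    have h' : h⁻¹ • u = u := inv_smul_eq_iff.2 hh.symm
    have hd' := hx _ (hstab h⁻¹ h' d hd)
    refine Units.ext (Frame.scalar_inj (V := V) fun v => ?_)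
    have h1 := hΩ x (cj h⁻¹ d) (h⁻¹ • v)
    rw [hd', Units.val_one, one_smul] at h1
    have h2 := congrArg (h • ·) h1
    have hinv : cj h (cj h⁻¹ d) = d := Subtype.ext (by
      simp [cj, MulAut.conjNormal_apply, mul_assoc])
    rw [hcj h x, hcj h (cj h⁻¹ d), hcj h (cj h⁻¹ d), hcj h x, hinv, smul_inv_smul] at h2
    rw [hΩ (cj h x) d v] at h2
    rw [Units.val_one, one_smul]
    by_cases hv : v = 0
    · rw [hv, smul_zero]
    have hw0 : (d : G) • (cj h x : G) • v ≠ 0 := by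
      rw [Ne, smul_eq_zero_iff_eq, smul_eq_zero_iff_eq]; exact hv
    have h4 : ((Ω (cj h x) d : Kˣ) : K) = 1 :=
      smul_left_injective K hw0 (h2.trans (one_smul K _).symm)
    rw [h4, one_smul]
  have hgi' : g⁻¹ • u = u := inv_smul_eq_iff.2 hgu.symm
  -- the permutation of the blocks
  have hθker : ∀ x y : ↥B, f x = f y → f (cj g x) = f (cj g y) := fun x y h => by
    have h1 := hstab' g hgu (x⁻¹ * y) (by rw [map_mul, map_inv, h, inv_mul_cancel])
    rwa [map_mul, map_inv, map_mul, map_inv, inv_mul_eq_one] at h1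
  let θ0 : M →* M := MonoidHom.mk' (fun m => ⟨f (cj g (rep m)), ⟨_, rfl⟩⟩) (fun m n => Subtype.ext (by
    show f (cj g (rep (m * n))) = f (cj g (rep m)) * f (cj g (rep n))
    rw [← map_mul, ← map_mul]
    exact hθker _ _ (by rw [hrep, map_mul, hrep, hrep]; rfl)))
  have hθinj : Function.Injective θ0 := by
    rw [injective_iff_map_eq_one]
    intro m hm
    have h1 := hstab' g⁻¹ hgi' _ (congrArg Subtype.val hm)
    have hinv : cj g⁻¹ (cj g (rep m)) = rep m := Subtype.ext (by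
      simp [cj, MulAut.conjNormal_apply, mul_assoc])
    rw [hinv, hrep] at h1
    exact Subtype.ext h1
  let θ : M ≃* M := MulEquiv.ofBijective θ0 ⟨hθinj, Finite.surjective_of_injective hθinj⟩
  have hθ : ∀ m, f (cj g (rep m)) = (θ m).1 := fun m => rfl
  -- the eigenspaces
  let T : ↥D → Module.End K V := fun d => S.toEnd (Subgroup.inclusion hBC d.1)
  let ψ : M → ↥D → K := fun m d => (((m.1 d)⁻¹ : Kˣ) : K) * χ d.1
  have hψ : Function.Injective ψ := by
    intro m n h
    refine Subtype.ext (MonoidHom.ext fun d => inv_injective (Units.ext ?_))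
    exact mul_right_cancel₀ (fun h0 => hu ((smul_eq_zero_iff_eq ((d.1 : ↥B) : G)).1
      (by rw [hχ d.1 d.2, h0, zero_smul]))) (congrFun h d)
  have hanti : ∀ (x y : ↥B) (v : V),
      (y : G) • (x : G) • v = (((Ω x y)⁻¹ : Kˣ) : K) • (x : G) • (y : G) • v := fun x y v => by
    rw [hΩ x y v, smul_smul (((Ω x y)⁻¹ : Kˣ) : K), Units.inv_mul, one_smul]
  have hP : ∀ (m : M) (b : ↥B) (c : K), f b = m.1 → ∀ d, T d (c • (b : G) • u) = ψ m d • c • (b : G) • u := by
    intro m b c hb d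
    show (d.1 : G) • c • (b : G) • u = _
    rw [hlin, hanti b d.1, hχ _ d.2, hlin, smul_smul _ (χ d.1), smul_comm c]
    simp only [ψ, ← hb]
    rfl
  have hg_lin : ∀ (c : K) (v : V), g • c • v = S.σ g c • g • v := S.semi g
  have hrep1 : ∀ b : ↥B, f b = (1 : M).1 ↔ ∀ d ∈ D, Ω b d = 1 := fun b => hfker b
  have hcomp : ∀ (W : M → V) (c : M → K) (b : M → ↥B), (∀ m, W m = c m • (b m : G) • u) →
      (∀ m, f (b m) = m.1) → g • (∑ m, W m) = ∑ m, W m → ∀ m, g • W m = W (θ m) := by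
    intro W c b hW hb hfix m
    have hgW : ∀ m, ∀ d, T d (g • W m) = ψ (θ m) d • g • W m := by
      intro m d
      rw [hW, hg_lin, hcj, hgu]
      exact hP (θ m) _ _ (by rw [← hθ]; exact hθker _ _ (by rw [hb, hrep])) d
    let R : M → V := fun n => g • W (θ.symm n) - W n
    have hR : ∀ n ∈ (Finset.univ : Finset M), R n = 0 := by
      refine eigen_indep T ψ hψ Finset.univ R (fun n _ d => ?_) ?_
      · have h1 := hgW (θ.symm n) d
        rw [MulEquiv.apply_symm_apply] at h1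
        simp only [R, map_sub, h1, smul_sub]
        rw [hW n, hP n _ _ (hb n)]
      · simp only [R, Finset.sum_sub_distrib]
        have e : ∑ n, g • W (θ.symm n) = ∑ n, g • W n := Equiv.sum_comp θ.symm.toEquiv (fun n => g • W n)
        rw [e, ← Finset.smul_sum, hfix, sub_self]
    have h2 := hR (θ m) (Finset.mem_univ _)
    simp only [R, MulEquiv.symm_apply_apply, sub_eq_zero] at h2
    exact h2
  have hb₁f : f b₁ = (1 : M).1 := (hrep1 b₁).2 hb₁
  have hYc : ∀ m, Y m = (if m = 1 then 1 else cy (cls gen m)) • ((if m = 1 then b₁ else rep m : ↥B) : G) • u := by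
    intro m
    by_cases hm : m = 1 <;> simp [Y, hm]
  have hZc : ∀ m, Z m = (if m = 1 then (ζ : K) else cz (cls gen m)) • ((if m = 1 then 1 else rep m : ↥B) : G) • u := by
    intro m
    by_cases hm : m = 1 <;> simp [Z, hm]
  have hY := hcomp Y _ _ hYc (fun m => by
    by_cases hm : m = 1
    · rw [if_pos hm, hm, hb₁f]
    · rw [if_neg hm, hrep]) hgy
  have hZ := hcomp Z _ _ hZc (fun m => by
    by_cases hm : m = 1
    · rw [if_pos hm, hm, map_one]; rfl
    · rw [if_neg hm, hrep]) hgz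
  have hθ1 : θ 1 = 1 := map_one θ
  have hy1 : g • (b₁ : G) • u = (b₁ : G) • u := by simpa [Y, hθ1] using hY 1
  have hσ : S.σ g = 1 := by
    have h1 := hZ 1
    simp only [hθ1, Z, if_true, hg_lin, hgu] at h1
    have hσζ : S.σ g (ζ : K) = ζ := smul_left_injective K hu h1
    refine RingEquiv.ext fun c => ?_
    by_cases hc : c = 0
    · subst hc; simp
    · obtain ⟨i, hi⟩ := Subgroup.mem_zpowers_iff.1 (hζ (Units.mk0 c hc))
      have hc' : ((ζ : K) ^ i) = c := by rw [← Units.val_zpow_eq_zpow_val, hi, Units.val_mk0]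
      rw [← hc', map_zpow₀, hσζ]; rfl
  have hgl : ∀ (c : K) (v : V), g • c • v = c • g • v := fun c v => by
    rw [hg_lin, hσ, RingAut.one_apply]
  -- the colours
  have hnz : ∀ x : ↥B, (x : G) • u ≠ 0 := fun x h => hu (by rwa [smul_eq_zero_iff_eq] at h)
  have hblock : ∀ m, m ≠ 1 → cls gen (θ m) = cls gen m ∧
      g • (rep m : G) • u = (rep (θ m) : G) • u := by
    intro m hm
    have hm' : θ m ≠ 1 := fun h => hm (θ.injective (h.trans (map_one θ).symm))
    have h1 := hY m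
    have h2 := hZ m
    simp only [Y, Z, if_neg hm, if_neg hm', hgl, hcj, hgu] at h1 h2
    set p := (cj g (rep m) : G) • u with hp_def
    set q := (rep (θ m) : G) • u with hq_def
    have hζ1 : (ζ : K) ≠ 1 := by
      intro h
      refine hm (Subtype.ext (MonoidHom.ext fun d => ?_))
      obtain ⟨i, hi⟩ := Subgroup.mem_zpowers_iff.1 (hζ (m.1 d))
      rw [← hi, show ζ = 1 from Units.ext h, one_zpow]
      rfl
    have hp : p ≠ 0 := hnz _
    have hq : q ≠ 0 := hnz _
    have hζ0 : (ζ : K) ≠ 0 := ζ.ne_zero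
    have hg' : g • (rep m : G) • u = p := by rw [hcj, hgu]
    rw [hg']
    have hc1 : ∀ m : M, m ≠ 1 → cls gen m ≠ 0 := fun m hm h => by
      simp only [cls] at h
      split_ifs at h with e1 e2 e3 e4
      all_goals first
        | exact absurd h (by decide)
        | exact hm e1
    have key : ∀ a b : Fin 5, a ≠ 0 → b ≠ 0 → cy a • p = cy b • q → cz a • p = cz b • q →
        b = a ∧ p = q := by
      intro a b ha hb e1 e2
      have e3 : p = q → (ζ : K) • p = q → False := fun h1 h2 => by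
        rw [← h1] at h2
        exact hζ1 (smul_left_injective K hp (h2.trans (one_smul K p).symm))
      have e4 : p = q → p = (ζ : K) • q → False := fun h1 h2 => e3 h1 (by
        rw [h1] at h2 ⊢
        exact h2.symm)
      fin_cases a <;> fin_cases b <;>
        simp [cy, cz, hp, hq, Ne.symm hp, Ne.symm hq, hζ0, smul_ne_zero hζ0 hp, smul_ne_zero hζ0 hq,
          Ne.symm (smul_ne_zero hζ0 hp), Ne.symm (smul_ne_zero hζ0 hq)] at ha hb e1 e2 ⊢ <;>
        first
          | exact e1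
          | exact e2
          | exact (e3 e1 e2).elim
          | exact (e4 e1 e2).elim
    exact key _ _ (hc1 m hm) (hc1 _ hm') h1 h2
  have hcls : ∀ m, cls gen (θ m) = cls gen m := fun m => by
    by_cases hm : m = 1
    · rw [hm, hθ1]
    · exact (hblock m hm).1
  have hθid := aut_eq_one hgi hind hgen θ hcls
  have hrepfix : ∀ m, m ≠ 1 → g • (rep m : G) • u = (rep m : G) • u := fun m hm => by
    have := (hblock m hm).2
    rwa [hθid] at this
  -- `g` fixes `b • u` for `b` in `B`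
  have hb2 : g • (b₂ : G) • u = (b₂ : G) • u := by
    rw [hrel, smul_add, hgl, hgl, hgu, hy1]
  have hb12 : g • (b₁ : G) • (b₂ : G) • u = (b₁ : G) • (b₂ : G) • u := by
    rw [hrel]
    simp only [smul_add, hlin, hgl, hy1]
    rw [← mul_smul (b₁ : G) (b₁ : G), show (b₁ : G) * b₁ = ((b₁ * b₁ : ↥B) : G) from rfl,
      hχ _ hb₁sq, hgl, hgu]
  have hB0fix : ∀ h : ↥B, (∀ d ∈ D, Ω h d = 1) → g • (h : G) • u = (h : G) • u := by
    intro h hh
    have key : ∀ x : ↥B, g • (x : G) • u = (x : G) • u → x⁻¹ * h ∈ D → g • (h : G) • u = (h : G) • u := by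
      intro x hx hxh
      have e : (h : G) • u = χ (x⁻¹ * h) • (x : G) • u := by
        conv_lhs => rw [← mul_inv_cancel_left x h]
        rw [Subgroup.coe_mul, mul_smul, hχ _ hxh, hlin]
      rw [e, hgl, hx]
    rcases hcover h hh with h1 | h1 | h1 | h1
    · exact key 1 (by simp [hgu]) (by simpa using h1)
    · exact key b₁ hy1 h1
    · exact key b₂ hb2 h1
    · exact key (b₁ * b₂) (by rw [Subgroup.coe_mul, mul_smul]; exact hb12) h1
  have hfixall : ∀ b : ↥B, g • (b : G) • u = (b : G) • u := by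
    intro b
    let m : M := ⟨f b, ⟨b, rfl⟩⟩
    by_cases hm : m = 1
    · exact hB0fix b ((hrep1 b).1 (congrArg Subtype.val hm))
    let x := rep m
    have hh : ∀ d ∈ D, Ω (x⁻¹ * b) d = 1 := (hrep1 _).1 (by
      rw [map_mul, map_inv, hrep]
      exact inv_mul_cancel _)
    have hx : g • (x : G) • u = (x : G) • u := hrepfix m hm
    have hh2 := hB0fix _ hh
    have hxd : x⁻¹ * cj g x ∈ D := (hD _).2 ⟨1, by
      rw [Subgroup.coe_mul, mul_smul, Subgroup.coe_inv, inv_smul_eq_iff, one_smul]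
      rw [hcj, hgu] at hx
      exact hx⟩
    have hxu : ((x⁻¹ * cj g x : ↥B) : G) • u = u := by
      rw [Subgroup.coe_mul, mul_smul, Subgroup.coe_inv, inv_smul_eq_iff]
      rw [hcj, hgu] at hx
      exact hx
    conv_rhs => rw [← mul_inv_cancel_left x b]
    conv_lhs => rw [← mul_inv_cancel_left x b]
    rw [Subgroup.coe_mul, mul_smul, hcj, hh2]
    conv_lhs => rw [← mul_inv_cancel_left x (cj g x), Subgroup.coe_mul, mul_smul]
    congr 1
    have h5 := hΩ (x⁻¹ * b) (x⁻¹ * cj g x) u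
    rw [hh _ hxd, Units.val_one, one_smul, hxu] at h5
    exact h5.symm
  -- `g` centralises `B`
  have hcen : ∀ b : ↥B, cj g b = b := by
    intro b
    set φ := b⁻¹ * cj g b with hφ_def
    have hφ : ∀ y : ↥B, (φ : G) • (y : G) • u = (y : G) • u := by
      intro y
      rw [hφ_def, Subgroup.coe_mul, mul_smul, Subgroup.coe_inv, inv_smul_eq_iff]
      have h1 := hfixall (b * y)
      rw [Subgroup.coe_mul, mul_smul, hcj, hfixall] at h1
      exact h1
    have hφu : (φ : G) • u = u := by simpa using hφ 1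
    have hmem : (φ : G) ∈ S.A := by
      refine S.center_le hBn hAB hBC φ.2 fun y hy => eq_of_smul_eq_smul fun v : V => ?_
      have h1 := hΩ φ ⟨y, hy⟩ u
      rw [hφ ⟨y, hy⟩, hφu] at h1
      have h2 : (Ω φ ⟨y, hy⟩ : K) = 1 :=
        smul_left_injective K (hnz ⟨y, hy⟩) (h1.symm.trans (one_smul K _).symm)
      have h3 := hΩ φ ⟨y, hy⟩ v
      rw [h2, one_smul, ← mul_smul, ← mul_smul] at h3
      exact h3
    have h4 : S.ι ⟨_, hmem⟩ = 1 := by
      have := S.scal ⟨_, hmem⟩ u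
      rw [hφu] at this
      exact smul_left_injective K hu (this.symm.trans (one_smul K u).symm)
    have h5 : (φ : G) = 1 := congrArg Subtype.val (S.ι_injective (h4.trans (map_one S.ι).symm))
    have h6 : φ = 1 := Subtype.ext h5
    rw [hφ_def, inv_mul_eq_one] at h6
    exact h6.symm
  have hgA : g ∈ S.A := S.centralizer_le hBn hAB hBC hcomm hmax (MonoidHom.mem_ker.2 hσ) fun y hy => by
    have h1 := congrArg Subtype.val (hcen ⟨y, hy⟩)
    rw [MulAut.conjNormal_apply, mul_inv_eq_iff_eq_mul] at h1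
    exact h1
  have h4 : S.ι ⟨g, hgA⟩ = 1 := by
    have := S.scal ⟨g, hgA⟩ u
    rw [hgu] at this
    exact smul_left_injective K hu (this.symm.trans (one_smul K u).symm)
  exact congrArg Subtype.val (S.ι_injective (h4.trans (map_one S.ι).symm))

end

end H21.Base3
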