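import Cfsg.Agent.H21.Base3.Generic
import Cfsg.Agent.H21.Base3.FrameExists
import Cfsg.Agent.H21.Base3.Primitive

/-!
Bases of size three for completely reducible actions of solvable groups.
-/

set_option autoImplicit false
set_option linter.style.haveILetI false
set_option linter.unusedSectionVars false

namespace H21.Base3

open MulAction
open H35.OddBase (IsCR IsIrr)

/-- An irreducible finite module has prime exponent. -/
theorem exists_prime_exponent {G W : Type*} [Group G] [AddCommGroup W] [Finite W]
    [DistribMulAction G W] (h : IsIrr G W) : ∃ p : ℕ, p.Prime ∧ ∀ w : W, p • w = 0 := by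
  haveI := h.1
  have hne : Nat.card W ≠ 1 := (Finite.one_lt_card_iff_nontrivial.2 h.1).ne'
  obtain ⟨p, hp, hdvd⟩ := Nat.exists_prime_and_dvd hne
  haveI : Fact p.Prime := ⟨hp⟩
  obtain ⟨w, hw⟩ := exists_prime_addOrderOf_dvd_card' p hdvd
  let U : AddSubgroup W := (nsmulAddMonoidHom p : W →+ W).ker
  have hmem : ∀ v, v ∈ U ↔ p • v = 0 := fun v => Iff.rfl
  have hw0 : w ≠ 0 := fun h0 => by
    rw [h0, addOrderOf_zero] at hw; exact hp.ne_one hw.symm
  have hwU : w ∈ U := (hmem w).2 (hw ▸ addOrderOf_nsmul_eq_zero w)
  refine ⟨p, hp, fun v => (hmem v).1 ?_⟩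
  rcases h.2 U (fun g v hv => by
    rw [hmem] at hv ⊢; rw [smul_comm, hv, smul_zero]) with hU | hU
  · exact absurd (AddSubgroup.mem_bot.1 (hU ▸ hwU)) hw0
  · exact hU ▸ AddSubgroup.mem_top v

/-- The step from one regular orbit on triples to five of them. -/
def FiveTriples : Prop :=
  ∀ (G W : Type) [Group G] [Finite G] [AddCommGroup W] [Finite W] [Nontrivial W]
    [DistribMulAction G W] (p : ℕ), p.Prime → (∀ w : W, p • w = 0) → Group.IsSolvable G →
    HasBase 3 G W → HasClasses 5 3 G W

/-- The irreducible faithful case. -/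
theorem hasBase_three_of_irr (h5 : FiveTriples) {G V : Type} [Group G] [Finite G] [AddCommGroup V]
    [Finite V] [DistribMulAction G V] [FaithfulSMul G V] [Group.IsSolvable G] (hirr : IsIrr G V)
    (hIH : ∀ (H W : Type) [Group H] [Finite H] [AddCommGroup W] [Finite W] [DistribMulAction H W],
      Group.IsSolvable H → IsCR H W → Nat.card W < Nat.card V → HasBase 3 H W) :
    HasBase 3 G V := by
  haveI := hirr.1
  by_cases hprim : H34.IsPrim (DistribMulAction.toAddMonoidEnd G V)
  · obtain ⟨K, _, _, _, ⟨S⟩⟩ := exists_frame hirr hprim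
    obtain ⟨a, b, c, h⟩ := hasTriple_of_frame S
    exact ⟨![a, b, c], fun g hg => h g (hg 0) (hg 1) (hg 2)⟩
  · unfold H34.IsPrim at hprim
    push Not at hprim
    obtain ⟨E, hE, hE2⟩ := hprim
    refine hasBase_of_decomp (c := 5) hirr E hE hE2 (fun Ω _ _ _ => ?_) fun H W _ _ _ _ hW hlt _ => ?_
    · exact hasCol_five _ G Ω inferInstance rfl
    · obtain ⟨p, hp, hpe⟩ := exists_prime_exponent hW
      exact h5 ↥H W p hp hpe inferInstance (hIH ↥H W inferInstance hW.isCR hlt)

/-- All orders at once, in the smallest universe. -/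
theorem hasBase_three_aux (h5 : FiveTriples) (n : ℕ) :
    ∀ (G V : Type) [Group G] [Finite G] [AddCommGroup V] [Finite V] [DistribMulAction G V],
      Group.IsSolvable G → IsCR G V → Nat.card V = n → HasBase 3 G V := by
  induction n using Nat.strong_induction_on with
  | _ n ih =>
    intro G V _ _ _ _ _ hs hcr hn
    subst hn
    classical
    have hIH : ∀ (H W : Type) [Group H] [Finite H] [AddCommGroup W] [Finite W] [DistribMulAction H W],
        Group.IsSolvable H → IsCR H W → Nat.card W < Nat.card V → HasBase 3 H W :=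
      fun H W _ _ _ _ _ h1 h2 h3 => ih _ h3 H W h1 h2 rfl
    by_cases hirr : IsIrr G V
    swap
    · exact hasBase_of_reducible hcr hirr fun W _ _ _ hW hlt _ => hIH G W hs hW hlt
    -- pass to the faithful quotient
    haveI := hs
    let f : G →* Equiv.Perm V := MulAction.toPermHom G V
    let Q := G ⧸ f.ker
    have hwd : ∀ a b : G, a⁻¹ * b ∈ f.ker → ∀ v : V, a • v = b • v := fun a b h v => by
      have h1 : (a⁻¹ * b) • v = v := DFunLike.congr_fun (MonoidHom.mem_ker.1 h) v
      rw [mul_smul, inv_smul_eq_iff] at h1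
      exact h1.symm
    letI : DistribMulAction Q V :=
      { smul := fun q v => Quotient.liftOn' q (fun g => g • v)
          fun a b h => hwd a b (QuotientGroup.leftRel_apply.1 h) v
        one_smul := fun v => one_smul G v
        mul_smul := fun q r v => by
          induction q using QuotientGroup.induction_on
          induction r using QuotientGroup.induction_on
          exact mul_smul _ _ v
        smul_zero := fun q => by induction q using QuotientGroup.induction_on; exact smul_zero _
        smul_add := fun q v w => by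
          induction q using QuotientGroup.induction_on; exact smul_add _ v w }
    haveI : FaithfulSMul Q V := ⟨fun {a b} h => by
      induction a using QuotientGroup.induction_on
      induction b using QuotientGroup.induction_on
      refine QuotientGroup.eq.2 (MonoidHom.mem_ker.2 (Equiv.ext fun v => ?_))
      show ((_ : G)⁻¹ * _) • v = v
      rw [mul_smul, inv_smul_eq_iff]; exact (h v).symm⟩
    have hirrQ : IsIrr Q V := ⟨hirr.1, fun U hU => hirr.2 U fun g v hv => hU (g : Q) v hv⟩
    obtain ⟨t, ht⟩ := hasBase_three_of_irr h5 hirrQ hIH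
    exact ⟨t, fun g hg x => ht (g : Q) hg x⟩

universe u v

/-- Three vectors with common stabiliser the kernel, in any universe. -/
theorem hasTriple_of_solvable (h5 : FiveTriples) {G : Type u} {V : Type v} [Group G] [Finite G]
    [AddCommGroup V] [Finite V] [DistribMulAction G V] (hs : Group.IsSolvable G) (hcr : IsCR G V) :
    HasTriple G V := by
  obtain ⟨G', iG, fG, ⟨eG⟩⟩ := Finite.exists_type_univ_nonempty_mulEquiv.{u, 0} G
  haveI : Finite G' := Finite.of_fintype G'
  haveI : Small.{0} V := inferInstance
  let e : Shrink.{0} V ≃+ V := Shrink.addEquiv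
  haveI : Finite (Shrink.{0} V) := Finite.of_equiv V e.toEquiv.symm
  letI : DistribMulAction G' (Shrink.{0} V) :=
    { smul := fun g x => e.symm (eG.symm g • e x)
      one_smul := fun x => by show e.symm (eG.symm 1 • e x) = x; simp
      mul_smul := fun g h x => by
        show e.symm (eG.symm (g * h) • e x) = e.symm (eG.symm g • e (e.symm (eG.symm h • e x)))
        simp [mul_smul]
      smul_zero := fun g => by show e.symm (eG.symm g • e 0) = 0; simp
      smul_add := fun g x y => by
        show e.symm (eG.symm g • e (x + y)) = e.symm (eG.symm g • e x) + e.symm (eG.symm g • e y)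
        simp [smul_add] }
  haveI := hs
  have hs' : Group.IsSolvable G' :=
    Group.isSolvable_of_surjective (f := eG.toMonoidHom) eG.surjective
  have hcr' : IsCR G' (Shrink.{0} V) := by
    intro U hU
    obtain ⟨W, hW, hb, ht⟩ := hcr (U.map e.toAddMonoidHom) (by
      rintro g _ ⟨x, hx, rfl⟩
      refine ⟨e.symm (g • e x), ?_, e.apply_symm_apply _⟩
      have h := hU (eG g) x hx
      change e.symm (eG.symm (eG g) • e x) ∈ U at h
      rwa [eG.symm_apply_apply] at h)
    refine ⟨W.comap e.toAddMonoidHom, fun g x hx => ?_, ?_, ?_⟩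
    · show e (e.symm (eG.symm g • e x)) ∈ W
      rw [e.apply_symm_apply]; exact hW _ _ hx
    · refine (AddSubgroup.eq_bot_iff_forall _).2 fun x hx => e.injective ?_
      rw [map_zero]
      exact AddSubgroup.mem_bot.1 (hb.le ⟨⟨x, hx.1, rfl⟩, hx.2⟩)
    · refine (AddSubgroup.eq_top_iff' _).2 fun x => ?_
      obtain ⟨_, ⟨a, ha, rfl⟩, b, hb', hab⟩ := AddSubgroup.mem_sup.1 (ht.symm.le (AddSubgroup.mem_top (e x)))
      refine AddSubgroup.mem_sup.2 ⟨a, ha, e.symm b, ?_, e.injective ?_⟩
      · show e (e.symm b) ∈ W
        rwa [e.apply_symm_apply]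
      · rw [map_add, e.apply_symm_apply]; exact hab
  obtain ⟨t, h⟩ := hasBase_three_aux h5 _ G' (Shrink.{0} V) hs' hcr' rfl
  refine ⟨e (t 0), e (t 1), e (t 2), fun g h1 h2 h3 x => ?_⟩
  have key : ∀ y, eG g • y = y ↔ g • e y = e y := fun y => by
    show e.symm (eG.symm (eG g) • e y) = y ↔ _
    rw [eG.symm_apply_apply, e.symm_apply_eq]
  have hfix : ∀ i, eG g • t i = t i := by
    intro i
    fin_cases i
    · exact (key _).2 h1
    · exact (key _).2 h2
    · exact (key _).2 h3
  have := (key (e.symm x)).1 (h (eG g) hfix (e.symm x))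
  rwa [e.apply_symm_apply] at this

end H21.Base3
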