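import Cfsg.Agent.H21.Base3.Colour
import Cfsg.Agent.H35.OddBase.Basic
import Cfsg.Agent.H34.EndDecomp

/-!
Bases of any given size for completely reducible actions: reducible and imprimitive actions.
-/

set_option autoImplicit false
set_option linter.style.haveILetI false
set_option linter.unusedSectionVars false

namespace H21.Base3

open MulAction
open H35.OddBase (IsCR IsIrr)

/-- `m` vectors whose common stabiliser is the kernel of the action. -/
def HasBase (m : ℕ) (G V : Type*) [Group G] [AddCommGroup V] [DistribMulAction G V] : Prop :=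
  ∃ v : Fin m → V, ∀ g : G, (∀ i, g • v i = v i) → ∀ x : V, g • x = x

/-- `c` inequivalent bases of size `m`. -/
def HasClasses (c m : ℕ) (G V : Type*) [Group G] [AddCommGroup V] [DistribMulAction G V] : Prop :=
  ∃ t : Fin c → Fin m → V, (∀ (j : Fin c) (g : G), g • t j = t j → ∀ x : V, g • x = x) ∧
    ∀ (j l : Fin c) (g : G), g • t j = t l → j = l

/-- Gluing configurations over a permuted index set. -/
theorem combine {c : ℕ} {G Ω X : Type*} [Group G] [MulAction G Ω] [MulAction G X] (col : Ω → Fin c)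
    (hcol : ∀ g : G, (∀ ω, col (g • ω) = col ω) → ∀ ω : Ω, g • ω = ω)
    (F : Ω → Set X) (hF : ∀ (g : G) (ω : Ω), ∀ x ∈ F ω, g • x ∈ F (g • ω))
    (Triv : G → Ω → Prop)
    (hTriv : ∀ (t g : G) (ω : Ω), Triv (t⁻¹ * g * t) ω → Triv g (t • ω))
    (hreg : ∀ ω : Ω, ∃ a : Fin c → X, (∀ j, a j ∈ F ω) ∧
      (∀ j (g : G), g • ω = ω → g • a j = a j → Triv g ω) ∧
      ∀ j l (g : G), g • ω = ω → g • a j = a l → j = l) :
    ∃ d : Ω → X, (∀ ω, d ω ∈ F ω) ∧
      ∀ g : G, (∀ ω, g • d ω = d (g • ω)) → ∀ ω, g • ω = ω ∧ Triv g ω := by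
  classical
  choose a haF ha hab using hreg
  let r : Ω → Ω := fun ω => (Quotient.mk'' ω : Quotient (orbitRel G Ω)).out
  have hr : ∀ ω, ∃ t : G, t • r ω = ω := fun ω => by
    have h1 : r ω ∈ orbit G ω :=
      orbitRel_apply.1 (Quotient.exact (Quotient.out_eq (Quotient.mk'' ω : Quotient (orbitRel G Ω))))
    exact (orbit_eq_iff.2 h1).symm.subset (mem_orbit_self ω)
  choose t ht using hr
  have hrg : ∀ (g : G) (ω : Ω), r (g • ω) = r ω := fun g ω => by
    have : (Quotient.mk'' (g • ω) : Quotient (orbitRel G Ω)) = Quotient.mk'' ω :=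
      Quotient.sound (mem_orbit ω g)
    simp only [r, this]
  refine ⟨fun ω => t ω • a (r ω) (col ω), fun ω => ?_, fun g hg => ?_⟩
  · have h := hF (t ω) (r ω) _ (haF (r ω) (col ω))
    rwa [ht ω] at h
  have key : ∀ ω, ((t (g • ω))⁻¹ * g * t ω) • r ω = r ω ∧
      ((t (g • ω))⁻¹ * g * t ω) • a (r ω) (col ω) = a (r ω) (col (g • ω)) := by
    intro ω
    constructor
    · rw [mul_smul, mul_smul, ht ω, inv_smul_eq_iff]
      exact (ht (g • ω)).symm.trans (by rw [hrg])
    · have h := hg ω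
      simp only at h
      rw [hrg] at h
      rw [mul_smul, mul_smul, h, inv_smul_smul]
  intro ω
  have hfix : g • ω = ω :=
    hcol g (fun w => (hab _ _ _ _ (key w).1 (key w).2).symm) ω
  refine ⟨hfix, ?_⟩
  obtain ⟨k1, k2⟩ := key ω
  rw [hfix] at k1 k2
  have h := hTriv (t ω) g (r ω) (ha _ _ _ k1 k2)
  rwa [ht ω] at h

/-- The imprimitive case. -/
theorem hasBase_of_decomp {m c : ℕ} [NeZero c] {G V : Type} [Group G] [Finite G] [AddCommGroup V] [Finite V]
    [DistribMulAction G V] (hirr : IsIrr G V)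
    (E : Finset (AddMonoid.End V)) (hE : H34.IsDecomp (DistribMulAction.toAddMonoidEnd G V) E)
    (hE2 : 1 < E.card)
    (hcol : ∀ (Ω : Type) [MulAction G Ω] [Finite Ω] [Nonempty Ω], HasCol c G Ω)
    (hreg : ∀ (H : Subgroup G) (W : Type) [AddCommGroup W] [Finite W] [Nontrivial W] [DistribMulAction ↥H W],
      IsIrr ↥H W → Nat.card W < Nat.card V → (∀ w : W, Nat.card V • w = 0) →
      HasClasses c m ↥H W) :
    HasBase m G V := by
  classical
  set φ := DistribMulAction.toAddMonoidEnd G V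
  let Ω := {e : AddMonoid.End V // e ∈ E}
  letI : MulAction G Ω :=
    { smul := fun g e => ⟨φ g * e.1 * φ g⁻¹, hE.conj g e.1 e.2⟩
      one_smul := fun e => Subtype.ext (H34.conj_one_arg φ e.1)
      mul_smul := fun g h e => Subtype.ext (H34.conj_conj φ g h e.1).symm }
  have hsm : ∀ (g : G) (e : Ω) (x : V), (g • e).1 (g • x) = g • e.1 x := fun g e x => by
    show g • e.1 (g⁻¹ • g • x) = g • e.1 x
    rw [inv_smul_smul]
  have hidem : ∀ (e : Ω) (x : V), e.1 (e.1 x) = e.1 x := fun e x => DFunLike.congr_fun (hE.idem e.1 e.2) x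
  have horth : ∀ (e f : Ω), e ≠ f → ∀ x : V, e.1 (f.1 x) = 0 := fun e f h x =>
    DFunLike.congr_fun (hE.orth e.1 e.2 f.1 f.2 fun h' => h (Subtype.ext h')) x
  have hsum : ∀ x : V, ∑ e : Ω, e.1 x = x := fun x => by
    have h := DFunLike.congr_fun hE.sum_eq x
    rw [← Finset.sum_coe_sort] at h
    let ev : AddMonoid.End V →+ V := AddMonoidHom.mk' (fun f => f x) fun _ _ => rfl
    exact (map_sum ev (fun e : Ω => e.1) _).symm.trans h
  -- few blocks
  have hcard : Nat.card Ω < Nat.card V := by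
    have hch : ∀ e : Ω, ∃ x : V, x ≠ 0 ∧ e.1 x = x := fun e => by
      obtain ⟨x, hx⟩ : ∃ x, e.1 x ≠ 0 := by
        by_contra h
        push Not at h
        exact hE.ne_zero e.1 e.2 (AddMonoidHom.ext h)
      exact ⟨e.1 x, hx, hidem e x⟩
    choose v hv0 hv using hch
    refine lt_of_le_of_lt (Nat.card_le_card_of_injective (fun e => (⟨v e, hv0 e⟩ : {x : V // x ≠ 0}))
      fun e f h => ?_) (Finite.card_subtype_lt (x := (0 : V)) fun h => h rfl)
    by_contra hne
    have h' : v e = v f := congrArg Subtype.val h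
    exact hv0 e (by rw [← hv e]; conv_lhs => rw [h', ← hv f]
                    exact horth e f hne _)
  let F : Ω → Set (Fin m → V) := fun e => {p | ∀ i, e.1 (p i) = p i}
  have hF : ∀ (g : G) (e : Ω), ∀ p ∈ F e, g • p ∈ F (g • e) := fun g e p hp i => by
    rw [Pi.smul_apply, hsm, hp i]
  let Triv : G → Ω → Prop := fun g e => ∀ x : V, e.1 x = x → g • x = x
  have hTriv : ∀ (t g : G) (e : Ω), Triv (t⁻¹ * g * t) e → Triv g (t • e) := by
    intro t g e h x hx
    have h1 : e.1 (t⁻¹ • x) = t⁻¹ • x := by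
      conv_rhs => rw [← hx]
      rw [show x = t • t⁻¹ • x from (smul_inv_smul t x).symm, hsm, inv_smul_smul, inv_smul_smul]
    have := h (t⁻¹ • x) h1
    rw [mul_smul, mul_smul, smul_inv_smul] at this
    exact MulAction.injective t⁻¹ this
  have hreg' : ∀ e : Ω, ∃ a : Fin c → Fin m → V, (∀ j, a j ∈ F e) ∧
      (∀ j (g : G), g • e = e → g • a j = a j → Triv g e) ∧
      ∀ j l (g : G), g • e = e → g • a j = a l → j = l := by
    intro e
    let W : AddSubgroup V := (e.1 : V →+ V).eqLocus (AddMonoidHom.id V)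
    have hWmem : ∀ x, x ∈ W ↔ e.1 x = x := fun _ => Iff.rfl
    let H := stabilizer G e
    have hWinv : ∀ (g : ↥H) (x : V), x ∈ W → (g : G) • x ∈ W := fun g x hx => by
      rw [hWmem] at hx ⊢
      have h := hsm g e x
      rw [show (g : G) • e = e from g.2, hx] at h
      exact h
    letI : DistribMulAction ↥H ↥W :=
      { smul := fun g x => ⟨(g : G) • x.1, hWinv g x.1 x.2⟩
        one_smul := fun x => Subtype.ext (one_smul G x.1)
        mul_smul := fun g h x => Subtype.ext (mul_smul (g : G) (h : G) x.1)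
        smul_zero := fun g => Subtype.ext (smul_zero (g : G))
        smul_add := fun g x y => Subtype.ext (smul_add (g : G) x.1 y.1) }
    haveI : Nontrivial ↥W := by
      obtain ⟨x, hx⟩ : ∃ x, e.1 x ≠ 0 := by
        by_contra h
        push Not at h
        exact hE.ne_zero e.1 e.2 (AddMonoidHom.ext h)
      exact ⟨⟨⟨e.1 x, hidem e x⟩, 0, fun h => hx (congrArg Subtype.val h)⟩⟩
    have hWirr : IsIrr ↥H ↥W := by
      refine ⟨inferInstance, fun U hU => ?_⟩
      by_cases hU0 : U = ⊥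
      · exact Or.inl hU0
      right
      let U' : AddSubgroup V := AddSubgroup.closure {x | ∃ g : G, ∃ u ∈ U, g • (u : V) = x}
      have hU' : ∀ g : G, ∀ x ∈ U', g • x ∈ U' := by
        intro g x hx
        induction hx using AddSubgroup.closure_induction with
        | mem x hx =>
          obtain ⟨h, u, hu, rfl⟩ := hx
          exact AddSubgroup.subset_closure ⟨g * h, u, hu, mul_smul _ _ _⟩
        | zero => rw [smul_zero]; exact zero_mem _
        | add x y _ _ hx hy => rw [smul_add]; exact add_mem hx hy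
        | neg x _ hx => rw [smul_neg]; exact neg_mem hx
      have hU'top : U' = ⊤ := (hirr.2 U' hU').resolve_left fun h => hU0 ((AddSubgroup.eq_bot_iff_forall _).2
        fun u hu => Subtype.ext (by
          have : (u : V) ∈ U' := AddSubgroup.subset_closure ⟨1, u, hu, one_smul _ _⟩
          rw [h, AddSubgroup.mem_bot] at this
          exact this))
      refine (AddSubgroup.eq_top_iff' _).2 fun w => ?_
      have key : ∀ x ∈ U', (⟨e.1 x, hidem e x⟩ : ↥W) ∈ U := by
        intro x hx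
        induction hx using AddSubgroup.closure_induction with
        | mem x hx =>
          obtain ⟨g, u, hu, rfl⟩ := hx
          by_cases hg : g • e = e
          · have h := hU ⟨g, hg⟩ u hu
            have heq : (⟨e.1 (g • (u : V)), hidem e _⟩ : ↥W) = (⟨g, hg⟩ : ↥H) • u :=
              Subtype.ext (by
                show e.1 (g • (u : V)) = g • (u : V)
                exact hWinv ⟨g, hg⟩ u u.2)
            rw [heq]; exact h
          · have h := hsm g e u
            rw [(hWmem u).1 u.2] at h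
            have heq : (⟨e.1 (g • (u : V)), hidem e _⟩ : ↥W) = 0 := Subtype.ext (by
              show e.1 (g • (u : V)) = 0
              rw [← h]; exact horth e (g • e) (Ne.symm hg) _)
            rw [heq]; exact zero_mem _
        | zero =>
          have heq : (⟨e.1 0, hidem e _⟩ : ↥W) = 0 := Subtype.ext (map_zero e.1)
          rw [heq]; exact zero_mem _
        | add x y _ _ hx hy =>
          have heq : (⟨e.1 (x + y), hidem e _⟩ : ↥W) = ⟨e.1 x, hidem e x⟩ + ⟨e.1 y, hidem e y⟩ :=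
            Subtype.ext (map_add e.1 x y)
          rw [heq]; exact add_mem hx hy
        | neg x _ hx =>
          have heq : (⟨e.1 (-x), hidem e _⟩ : ↥W) = -⟨e.1 x, hidem e x⟩ := Subtype.ext (map_neg e.1 x)
          rw [heq]; exact neg_mem hx
      have h := key w (hU'top ▸ AddSubgroup.mem_top _)
      have heq : (⟨e.1 (w : V), hidem e _⟩ : ↥W) = w := Subtype.ext w.2
      rwa [heq] at h
    have hlt : Nat.card ↥W < Nat.card V := by
      have hΩ : 1 < Fintype.card Ω := by rw [Fintype.card_coe]; exact hE2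
      obtain ⟨f, hf⟩ := Fintype.exists_ne_of_one_lt_card hΩ e
      obtain ⟨x, hx⟩ : ∃ x, f.1 x ≠ 0 := by
        by_contra h
        push Not at h
        exact hE.ne_zero f.1 f.2 (AddMonoidHom.ext h)
      refine Finite.card_subtype_lt (x := f.1 x) fun h => hx ?_
      rw [← (hWmem _).1 h]; exact horth e f (Ne.symm hf) x
    obtain ⟨t, ht1, ht2⟩ := hreg H ↥W hWirr hlt fun w => by
      haveI := Fintype.ofFinite V
      exact Subtype.ext (by rw [AddSubgroupClass.coe_nsmul, Nat.card_eq_fintype_card]; exact card_nsmul_eq_zero)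
    refine ⟨fun j i => (t j i).1, fun j i => (t j i).2, fun j g hg h x hx => ?_, fun j l g hg h => ?_⟩
    · exact congrArg Subtype.val (ht1 j ⟨g, hg⟩ (funext fun i => Subtype.ext (congrFun h i)) ⟨x, hx⟩)
    · exact ht2 j l ⟨g, hg⟩ (funext fun i => Subtype.ext (congrFun h i))
  haveI : Finite Ω := Finite.of_fintype Ω
  haveI : Nonempty Ω := by
    obtain ⟨e, he⟩ := Finset.card_pos.1 (by omega : 0 < E.card)
    exact ⟨⟨e, he⟩⟩
  obtain ⟨f, hf, -⟩ := hcol Ω
  obtain ⟨cc, hc, hcfix⟩ := combine (f 0) (hf 0) F hF Triv hTriv hreg'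
  refine ⟨fun i => ∑ e, cc e i, fun g hg x => ?_⟩
  have hcomp : ∀ (e : Ω) (d : Ω → V), (∀ f, f.1 (d f) = d f) → e.1 (∑ f, d f) = d e := by
    intro e d hd
    rw [map_sum, Finset.sum_eq_single e (fun f _ hf => by rw [← hd f]; exact horth e f (Ne.symm hf) _)
      (fun h => absurd (Finset.mem_univ e) h), hd e]
  have hall : ∀ e, g • e = e ∧ Triv g e := by
    refine hcfix g fun e => funext fun i => ?_
    have e1 := hsm g e (∑ f, cc f i)
    rw [hg i, hcomp _ _ fun f => hc f i, hcomp _ _ fun f => hc f i] at e1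
    exact e1.symm
  conv_lhs => rw [← hsum x]
  rw [Finset.smul_sum]
  conv_rhs => rw [← hsum x]
  exact Finset.sum_congr rfl fun e _ => (hall e).2 _ (hidem e x)

/-- The reducible case. -/
theorem hasBase_of_reducible {m : ℕ} {G V : Type} [Group G] [Finite G] [AddCommGroup V] [Finite V]
    [DistribMulAction G V] (hcr : IsCR G V) (hirr : ¬ IsIrr G V)
    (hpair : ∀ (W : Type) [AddCommGroup W] [Finite W] [DistribMulAction G W],
      IsCR G W → Nat.card W < Nat.card V → (∀ w : W, Nat.card V • w = 0) → HasBase m G W) :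
    HasBase m G V := by
  classical
  by_cases hsub : Subsingleton V
  · exact ⟨fun _ => 0, fun g _ x => Subsingleton.elim _ _⟩
  rw [not_subsingleton_iff_nontrivial] at hsub
  unfold H35.OddBase.IsIrr at hirr
  push Not at hirr
  obtain ⟨U, hU, hU0, hU1⟩ := hirr hsub
  obtain ⟨W, hW, hb, ht⟩ := hcr U hU
  have key : ∀ (U W : AddSubgroup V), (∀ g : G, ∀ v ∈ U, g • v ∈ U) → (∀ g : G, ∀ v ∈ W, g • v ∈ W) →
      U ⊓ W = ⊥ → U ⊔ W = ⊤ → W ≠ ⊥ →
      ∃ v : Fin m → V, (∀ i, v i ∈ U) ∧ ∀ g : G, (∀ i, g • v i = v i) → ∀ x ∈ U, g • x = x := by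
    intro U W hU hW hb ht hW0
    letI : DistribMulAction G ↥U :=
      { smul := fun g x => ⟨g • x.1, hU g x.1 x.2⟩
        one_smul := fun x => Subtype.ext (one_smul G x.1)
        mul_smul := fun g h x => Subtype.ext (mul_smul g h x.1)
        smul_zero := fun g => Subtype.ext (smul_zero g)
        smul_add := fun g x y => Subtype.ext (smul_add g x.1 y.1) }
    have hlt : Nat.card ↥U < Nat.card V := by
      obtain ⟨x, hx, hx0⟩ := W.bot_or_exists_ne_zero.resolve_left hW0
      refine Finite.card_subtype_lt (x := x) fun h => hx0 ?_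
      exact AddSubgroup.mem_bot.1 (hb.le ⟨h, hx⟩)
    have hcrU : IsCR G ↥U := by
      intro Y hY
      obtain ⟨Y', h1, h2, h3, h4⟩ := hcr.restrict U (Y.map U.subtype) hU (by
        rintro g _ ⟨y, hy, rfl⟩; exact ⟨g • y, hY g y hy, rfl⟩)
        (by rintro _ ⟨y, -, rfl⟩; exact y.2)
      refine ⟨Y'.comap U.subtype, fun g y hy => h1 g y.1 hy, ?_, ?_⟩
      · refine (AddSubgroup.eq_bot_iff_forall _).2 fun y hy => Subtype.ext ?_
        exact AddSubgroup.mem_bot.1 (h3.le ⟨⟨y, hy.1, rfl⟩, hy.2⟩)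
      · refine (AddSubgroup.eq_top_iff' _).2 fun y => ?_
        obtain ⟨_, ⟨a, ha, rfl⟩, b, hb, hab⟩ := AddSubgroup.mem_sup.1 (h4.symm.le y.2)
        exact AddSubgroup.mem_sup.2 ⟨a, ha, ⟨b, h2 hb⟩, hb, Subtype.ext hab⟩
    obtain ⟨v, h⟩ := hpair ↥U hcrU hlt fun w => by
      haveI := Fintype.ofFinite V
      exact Subtype.ext (by rw [AddSubgroupClass.coe_nsmul, Nat.card_eq_fintype_card]; exact card_nsmul_eq_zero)
    exact ⟨fun i => (v i).1, fun i => (v i).2, fun g h1 x hx =>
      congrArg Subtype.val (h g (fun i => Subtype.ext (h1 i)) ⟨x, hx⟩)⟩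
  have hW0 : W ≠ ⊥ := fun h => hU1 (by rw [h, sup_bot_eq] at ht; exact ht)
  obtain ⟨v1, hv1, k1⟩ := key U W hU hW hb ht hW0
  obtain ⟨v2, hv2, k2⟩ := key W U hW hU (inf_comm U W ▸ hb) (sup_comm U W ▸ ht) hU0
  have huniq : ∀ a a' b b' : V, a ∈ U → a' ∈ U → b ∈ W → b' ∈ W → a + b = a' + b' → a = a' ∧ b = b' := by
    intro a a' b b' ha ha' hb1 hb2 h
    have h1 : a - a' = b' - b := by rw [sub_eq_sub_iff_add_eq_add, h, add_comm]
    have h2 : a - a' = 0 := AddSubgroup.mem_bot.1 (hb.le ⟨U.sub_mem ha ha', h1 ▸ W.sub_mem hb2 hb1⟩)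
    rw [h2] at h1
    exact ⟨sub_eq_zero.1 h2, (sub_eq_zero.1 h1.symm).symm⟩
  refine ⟨fun i => v1 i + v2 i, fun g h1 x => ?_⟩
  have e : ∀ i, g • v1 i = v1 i ∧ g • v2 i = v2 i := fun i => by
    have h := h1 i
    rw [smul_add] at h
    exact huniq _ _ _ _ (hU g _ (hv1 i)) (hv1 i) (hW g _ (hv2 i)) (hv2 i) h
  obtain ⟨a, ha, b, hb', rfl⟩ := AddSubgroup.mem_sup.1 (ht.symm.le (AddSubgroup.mem_top x))
  rw [smul_add, k1 g (fun i => (e i).1) a ha, k2 g (fun i => (e i).2) b hb']

end H21.Base3
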