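import Cfsg.Agent.H21.Base2.Main
import Cfsg.Agent.H58.Base.OrbitClasses

/-!
The orbit counting steps of the two inductions.
-/

set_option autoImplicit false
set_option linter.style.haveILetI false
set_option linter.unusedSectionVars false

namespace H21.Base3

open H35.OddBase (HasPair)

theorem fiveTriples : FiveTriples := by
  intro G W _ _ _ _ _ _ p hp hexp hs hb
  haveI : Fact p.Prime := ⟨hp⟩
  obtain ⟨v, hv⟩ := hb
  obtain ⟨t, ht1, ht2⟩ := H58.Base.exists_five_triples (p := p) hs hexp
    ⟨v 0, v 1, v 2, fun g h0 h1 h2 => hv g fun i => by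
      fin_cases i
      · exact h0
      · exact h1
      · exact h2⟩
  have key : ∀ (j l : Fin 5) (g : G),
      g • ![(t j).1, (t j).2.1, (t j).2.2] = ![(t l).1, (t l).2.1, (t l).2.2] → g • t j = t l :=
    fun j l g h => Prod.ext (congrFun h 0) (Prod.ext (congrFun h 1) (congrFun h 2))
  exact ⟨fun j => ![(t j).1, (t j).2.1, (t j).2.2], fun j g h => ht1 j g (key j j g h),
    fun j l g h => ht2 j l g (key j l g h)⟩

theorem pairClasses_of {c : ℕ} {G W : Type} [Group G] [AddCommGroup W] [DistribMulAction G W]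
    (h : ∃ t : Fin c → W × W, (∀ i (g : G), g • t i = t i → ∀ x : W, g • x = x) ∧
      ∀ i j (g : G), g • t i = t j → i = j) : HasClasses c 2 G W := by
  obtain ⟨t, ht1, ht2⟩ := h
  have key : ∀ (j l : Fin c) (g : G),
      g • ![(t j).1, (t j).2] = ![(t l).1, (t l).2] → g • t j = t l :=
    fun j l g h => Prod.ext (congrFun h 0) (congrFun h 1)
  exact ⟨fun j => ![(t j).1, (t j).2], fun j g h => ht1 j g (key j j g h),
    fun j l g h => ht2 j l g (key j l g h)⟩

theorem fivePairs : H21.Base2.PairClasses 5 (fun p => 5 ≤ p) := by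
  intro G W _ _ _ _ _ _ p hp hp5 hexp _ hcop hb
  haveI : Fact p.Prime := ⟨hp⟩
  exact pairClasses_of (H58.Base.exists_five_pairs hexp hp5 hcop hb)

theorem threePairs : H21.Base2.PairClasses 3 (fun p => p = 3) := by
  intro G W _ _ _ _ _ _ p hp hp3 hexp _ hcop hb
  subst hp3
  haveI : Fact (Nat.Prime 3) := ⟨hp⟩
  exact pairClasses_of (H58.Base.exists_three_pairs hexp hcop hb)

end H21.Base3
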